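import Cfsg.Agent.MTwelveCent.Coded
import Cfsg.Agent.Mathieu.SmallOrders
import Cfsg.Prelude.Def_SporadicB

/-!
The centraliser of a 2-central involution of the dodecad stabiliser is coded by `cList`.
-/

set_option autoImplicit false

namespace CfsgLib.MTwelveCent

open Cfsg CfsgLib.Mathieu CfsgLib.FusionSimple.MathieuTab

/-- The Sylow 2-subgroup. -/
def sList : List ℕ := qList ++ qList.map fun q => mulT q eT

/-- A canonical table of a member of the dodecad stabiliser. -/
def inT (t : ℕ) : Bool := inM12 t && canon t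

theorem exists_of_inT {t : ℕ} (h : inT t = true) : ∃ σ : ↥Spor.M12, tab σ.1 = t := by
  simp only [inT, Bool.and_eq_true] at h
  obtain ⟨σ, hσ, e⟩ := exists_tab (inGroup_of_inM12 h.1) h.2
  exact ⟨⟨σ, hσ⟩, e.symm⟩

theorem mulT_right_cancel {c c' g : Equiv.Perm GolayPt} {a : ℕ} (ha : canon a = true)
    (h : mulT a (tab g) = tab (c * g)) (_hc : c' = c) : a = tab c := by
  rw [← beq_iff_eq.1 (show (pack (app a) == a) = true from ha)]
  refine pack_congr fun i hi => ?_
  obtain ⟨j, hj⟩ := g.surjective (pt i)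
  have h2 : app (mulT a (tab g)) (idx j) = app (tab (c * g)) (idx j) := by rw [h]
  rw [app_tab_idx, Equiv.Perm.mul_apply] at h2
  have h3 : app (mulT a (tab g)) (idx j) = app a (app (tab g) (idx j)) % 256 := by
    unfold mulT
    rw [pack_congr (g := fun i => app a (app (tab g) i) % 256) (fun i _ => by
      simp [app, Nat.mod_mod])]
    exact app_pack (fun _ => Nat.mod_lt _ (by norm_num)) (idx_lt j)
  rw [h2, app_tab_idx, hj, idx_pt hi, Nat.mod_eq_of_lt (by
    simp only [app]; exact Nat.mod_lt _ (by norm_num))] at h3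
  exact h3.symm

/-- The checks on the conjugates. -/
def orbOK : List ℕ → List (ℕ × ℕ) → List ℕ → Bool
  | [], _, _ => true
  | _ :: _, [], _ => false
  | c :: cs, (i, k) :: ss, acc =>
    (match acc[i]?, mGens[k]? with
      | some p, some g => mulT g p == mulT c g
      | _, _ => false) && canon c && orbOK cs ss (acc ++ [c])

theorem orbOK_sound {u : ↥Spor.M12} (hm : ∀ g ∈ mGens, ∃ σ : ↥Spor.M12, tab σ.1 = g) :
    ∀ (cs : List ℕ) (ss : List (ℕ × ℕ)) (acc : List ℕ),
      (∀ a ∈ acc, ∃ v : ↥Spor.M12, IsConj u v ∧ tab v.1 = a) → orbOK cs ss acc = true →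
      ∀ a ∈ acc ++ cs, ∃ v : ↥Spor.M12, IsConj u v ∧ tab v.1 = a
  | [], _, acc, hacc, _, a, ha => hacc a (by simpa using ha)
  | _ :: _, [], _, _, h, _, _ => by simp [orbOK] at h
  | c :: cs, (i, k) :: ss, acc, hacc, h, a, ha => by
    simp only [orbOK, Bool.and_eq_true] at h
    obtain ⟨⟨h1, h2⟩, h3⟩ := h
    refine orbOK_sound hm cs ss (acc ++ [c]) (fun b hb => ?_) h3 a (by simpa using ha)
    rcases List.mem_append.1 hb with hb | hb
    · exact hacc b hb
    · rw [List.mem_singleton.1 hb]
      split at h1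
      · rename_i p g hp hg
        obtain ⟨v, hv, rfl⟩ := hacc p (List.mem_of_getElem? hp)
        obtain ⟨σ, rfl⟩ := hm g (List.mem_of_getElem? hg)
        refine ⟨σ * v * σ⁻¹, hv.trans (isConj_iff.2 ⟨σ, rfl⟩), ?_⟩
        refine (mulT_right_cancel (g := σ.1) h2 ?_ rfl).symm
        rw [← beq_iff_eq.1 h1, mulT_tab]
        congr 1
        simp
      · simp at h1

/-- The tabulated involution. -/
theorem exists_uZ : ∃ u : ↥Spor.M12, tab u.1 = zT :=
  exists_of_inT (by decide +kernel)

/-- The tabulated involution, as an element. -/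
noncomputable def uZ : ↥Spor.M12 := exists_uZ.choose

theorem tab_uZ : tab uZ.1 = zT := exists_uZ.choose_spec

theorem tab_inj {a b : ↥Spor.M12} (h : tab a.1 = tab b.1) : a = b :=
  Subtype.ext (tab_injective h)

theorem cList_checks : (cList.all fun c => inT c && mulT c zT == mulT zT c) = true := by
  decide +kernel

theorem cList_nodup : cList.Nodup := by decide +kernel

theorem cList_length : cList.length = 192 := by decide +kernel

theorem orbList_nodup : orbList.Nodup := by decide +kernel

theorem orb_checks : (mGens.all inT && (orbList.head? == some zT) &&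
    orbOK orbList.tail orbSteps [zT]) = true := by decide +kernel

theorem card_centralizer_uZ_le :
    Nat.card (Subgroup.centralizer ({uZ} : Set ↥Spor.M12)) ≤ 192 := by
  obtain ⟨⟨h1, h2⟩, h3⟩ : (_ ∧ _) ∧ _ := by
    simpa only [Bool.and_eq_true] using orb_checks
  have hall : ∀ a ∈ orbList, ∃ v : ↥Spor.M12, IsConj uZ v ∧ tab v.1 = a := by
    intro a ha
    refine orbOK_sound (fun g hg => exists_of_inT (List.all_eq_true.1 h1 g hg)) _ _ [zT]
      (fun b hb => ?_) h3 a ?_
    · exact ⟨uZ, IsConj.refl _, by rw [List.mem_singleton.1 hb, tab_uZ]⟩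
    · have h2' : orbList.head? = some zT := by simpa using h2
      obtain ⟨l, hl⟩ := List.head?_eq_some_iff.1 h2'
      rw [hl] at ha ⊢
      simpa using ha
  choose v hv hvt using hall
  have hle : orbList.length ≤ Nat.card {g : ↥Spor.M12 // IsConj uZ g} := by
    refine le_of_eq_of_le (Nat.card_fin _).symm (Nat.card_le_card_of_injective
      (fun i : Fin orbList.length => ⟨v _ (List.getElem_mem i.2), hv _ (List.getElem_mem i.2)⟩) ?_)
    intro i j h
    have h' := congrArg (fun g : {g : ↥Spor.M12 // IsConj uZ g} => tab g.1.1) h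
    simp only [hvt] at h'
    exact Fin.ext ((List.Nodup.getElem_inj_iff orbList_nodup).1 h')
  have hc := CfsgLib.Small.card_conjugates_mul_card_centralizer (G := ↥Spor.M12) uZ
  rw [card_SporM12] at hc
  have hlen : orbList.length = 495 := by decide +kernel
  rw [hlen] at hle
  by_contra h
  have h' := Nat.mul_le_mul hle (Nat.succ_le_of_lt (not_le.1 h))
  rw [hc] at h'
  exact absurd h' (by decide)

theorem exists_el : ∃ el : ℕ → ↥Spor.M12, ∀ c, (∃ σ : ↥Spor.M12, tab σ.1 = c) → tab (el c).1 = c := by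
  classical
  exact ⟨fun c => if h : ∃ σ : ↥Spor.M12, tab σ.1 = c then h.choose else 1, fun c h => by
    simp only [h, dite_true]; exact h.choose_spec⟩

/-- The centraliser of the tabulated involution, coded. -/
theorem exists_coded_uZ : Nonempty (Coded uZ) := by
  obtain ⟨el, hel⟩ := exists_el
  have hc : ∀ c ∈ cList, tab (el c).1 = c ∧ el c * uZ = uZ * el c := by
    intro c hc
    have h := List.all_eq_true.1 cList_checks c hc
    simp only [Bool.and_eq_true, beq_iff_eq] at h
    refine ⟨hel c (exists_of_inT h.1), tab_inj ?_⟩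
    simp only [Subgroup.coe_mul]
    rw [← mulT_tab, ← mulT_tab, hel c (exists_of_inT h.1), tab_uZ]
    exact h.2
  have hinj : ∀ a ∈ cList, ∀ b ∈ cList, el a = el b → a = b := fun a ha b hb h => by
    rw [← (hc a ha).1, h, (hc b hb).1]
  have hsurj : ∀ g : ↥Spor.M12, g * uZ = uZ * g → ∃ c ∈ cList, el c = g := by
    intro g hg
    let f : Fin cList.length → Subgroup.centralizer ({uZ} : Set ↥Spor.M12) := fun i =>
      ⟨el cList[i], Subgroup.mem_centralizer_singleton_iff.2 (hc _ (List.getElem_mem i.2)).2⟩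
    have hf : Function.Injective f := fun i j h => Fin.ext
      ((List.Nodup.getElem_inj_iff cList_nodup).1
        (hinj _ (List.getElem_mem i.2) _ (List.getElem_mem j.2) (congrArg Subtype.val h)))
    have hbij := hf.bijective_of_nat_card_le (by
      rw [Nat.card_fin, cList_length]; exact card_centralizer_uZ_le)
    obtain ⟨i, hi⟩ := hbij.2 ⟨g, Subgroup.mem_centralizer_singleton_iff.2 hg⟩
    exact ⟨cList[i], List.getElem_mem i.2, congrArg Subtype.val hi⟩
  have hmulT : ∀ a ∈ cList, ∀ b ∈ cList,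
      mulT a b ∈ cList ∧ el (mulT a b) = el a * el b := by
    intro a ha b hb
    obtain ⟨c, hcl, hce⟩ := hsurj (el a * el b) (by
      rw [mul_assoc, (hc b hb).2, ← mul_assoc, (hc a ha).2, mul_assoc])
    have hab : mulT a b = c := by
      rw [← (hc c hcl).1, hce, Subgroup.coe_mul, ← mulT_tab, (hc a ha).1, (hc b hb).1]
    exact ⟨hab.symm ▸ hcl, hab.symm ▸ hce⟩
  refine ⟨⟨el, fun g => ⟨hsurj g, ?_⟩, hinj, fun a ha b hb => (hmulT a ha b hb).2,
    fun a ha b hb => (hmulT a ha b hb).1, ?_, ?_⟩⟩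
  · rintro ⟨c, hcl, rfl⟩
    exact (hc c hcl).2
  · refine tab_inj ?_
    rw [hel idT ⟨1, tab_one⟩, Subgroup.coe_one, tab_one]
  · refine tab_inj ?_
    rw [hel zT ⟨uZ, tab_uZ⟩, tab_uZ]

theorem sList_checks : (closedOK sList && sList.contains idT && sList.contains zT &&
    sList.all (fun s => cList.contains s) &&
    sList.all (fun s => s == idT || s == zT || sList.any fun g => mulT g s != mulT s g)) = true := by
  decide +kernel

theorem sList_nodup : sList.Nodup := by decide +kernel

theorem center_checks : (cList.all fun s =>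
    s == idT || s == zT || cList.any fun g => mulT g s != mulT s g) = true := by
  decide +kernel

/-- All 2-central involutions are conjugate to the tabulated one. -/
theorem isConj_uZ {u : ↥Spor.M12} (hu : IsTwoCentralInvolution u) : IsConj uZ u := by
  haveI : Fact (Nat.Prime 2) := ⟨Nat.prime_two⟩
  obtain ⟨hu2, P, huP, hP⟩ := hu
  obtain ⟨K⟩ := exists_coded_uZ
  obtain ⟨⟨⟨⟨h1, h2⟩, -⟩, h4⟩, h5⟩ : (((_ ∧ _) ∧ _) ∧ _) ∧ _ := by
    simpa only [Bool.and_eq_true] using sList_checks
  have hsub : ∀ c ∈ sList, c ∈ cList := fun c hc =>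
    List.contains_iff_mem.1 (List.all_eq_true.1 h4 c hc)
  set S0 := K.sub sList hsub (List.contains_iff_mem.1 h2) h1 with hS0
  have hS0c : Nat.card S0 = 2 ^ 6 := by
    rw [hS0, K.card_sub sList_nodup]; decide +kernel
  obtain ⟨S, hS⟩ := (IsPGroup.of_card hS0c).exists_le_sylow
  have hSc : Nat.card (S : Subgroup ↥Spor.M12) = 2 ^ 6 := by
    have hfac : (95040 : ℕ).factorization 2 = 6 := by
      rw [show 95040 = 2 ^ 6 * 1485 from rfl, Nat.factorization_mul (by norm_num) (by norm_num),
        Finsupp.add_apply, Nat.Prime.factorization_pow Nat.prime_two, Finsupp.single_eq_same,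
        Nat.factorization_eq_zero_of_not_dvd (by norm_num)]
    rw [S.card_eq_multiplicity, card_SporM12, hfac]
  have hSeq : S0 = (S : Subgroup ↥Spor.M12) :=
    Subgroup.eq_of_le_of_card_ge hS (by rw [hSc, hS0c])
  obtain ⟨g, hg⟩ := MulAction.exists_smul_eq ↥Spor.M12 P S
  have hmemS : ∀ x, x ∈ (S : Subgroup ↥Spor.M12) ↔ g⁻¹ * x * g ∈ (P : Subgroup ↥Spor.M12) := by
    intro x
    rw [← hg, Sylow.coe_subgroup_smul, Subgroup.mem_pointwise_smul_iff_inv_smul_mem, ← map_inv]
    simp [MulAut.smul_def]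
  have hv : g * u * g⁻¹ ∈ S0 := by
    rw [hSeq, hmemS, show g⁻¹ * (g * u * g⁻¹) * g = u by group]
    exact huP
  obtain ⟨c, hc, hce⟩ := hv
  have hcz : c = zT := by
    have h := List.all_eq_true.1 h5 c hc
    simp only [Bool.or_eq_true, beq_iff_eq, List.any_eq_true, bne_iff_ne] at h
    rcases h with (h | h) | ⟨d, hd, hne⟩
    · rw [h, K.el_id, eq_comm, conj_eq_one_iff] at hce
      exact absurd hce (CfsgLib.Small.ne_one_of_orderOf_two hu2)
    · exact h
    · refine absurd ?_ hne
      have hy : g⁻¹ * K.el d * g ∈ (P : Subgroup ↥Spor.M12) :=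
        (hmemS _).1 (hSeq ▸ (⟨d, hd, rfl⟩ : K.el d ∈ S0))
      have hy2 := hP _ hy
      rw [← K.mul_eq_mul_iff (hsub d hd) (hsub c hc) (hsub c hc) (hsub d hd), hce]
      calc K.el d * (g * u * g⁻¹) = g * ((g⁻¹ * K.el d * g) * u) * g⁻¹ := by group
        _ = g * (u * (g⁻¹ * K.el d * g)) * g⁻¹ := by rw [hy2]
        _ = g * u * g⁻¹ * K.el d := by group
  rw [hcz, K.el_z] at hce
  exact (isConj_iff.2 ⟨g, hce.symm⟩).symm

/-- The centraliser hypothesis gives a coded centraliser. -/
theorem exists_coded {G : Type*} [Group G] (u : ↥Spor.M12) (hu : IsTwoCentralInvolution u)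
    (t : G) (ht : orderOf t = 2)
    (e : ↥(Subgroup.centralizer ({t} : Set G)) ≃* ↥(Subgroup.centralizer ({u} : Set ↥Spor.M12))) :
    Nonempty (Coded t) := by
  classical
  obtain ⟨g, rfl⟩ := isConj_iff.1 (isConj_uZ hu)
  obtain ⟨K₀⟩ := exists_coded_uZ
  let K := K₀.conj g
  set u := g * uZ * g⁻¹
  have hmemK : ∀ c ∈ cList, K.el c ∈ Subgroup.centralizer ({u} : Set ↥Spor.M12) :=
    fun c hc => Subgroup.mem_centralizer_singleton_iff.2 (K.commute hc)
  let el : ℕ → G := fun c =>
    if h : K.el c ∈ Subgroup.centralizer ({u} : Set ↥Spor.M12) then (e.symm ⟨K.el c, h⟩ : G) else 1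
  have hel : ∀ c (h : c ∈ cList), el c = (e.symm ⟨K.el c, hmemK c h⟩ : G) := fun c h => by
    simp [el, hmemK c h]
  have hid : el idT = 1 := by
    have h : K.el idT ∈ Subgroup.centralizer ({u} : Set ↥Spor.M12) := by
      rw [K.el_id]; exact one_mem _
    simp only [el, h, dite_true]
    rw [show (⟨K.el idT, h⟩ : Subgroup.centralizer ({u} : Set ↥Spor.M12)) = 1 from
      Subtype.ext K.el_id, map_one]
    rfl
  have hmul : ∀ a ∈ cList, ∀ b ∈ cList, el (mulT a b) = el a * el b := by
    intro a ha b hb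
    rw [hel a ha, hel b hb, hel _ (K.closed a ha b hb), ← Subgroup.coe_mul, ← map_mul]
    exact congrArg _ (congrArg e.symm (Subtype.ext (K.mul a ha b hb)))
  have hinj : ∀ a ∈ cList, ∀ b ∈ cList, el a = el b → a = b := by
    intro a ha b hb h
    rw [hel a ha, hel b hb] at h
    exact K.inj a ha b hb (congrArg Subtype.val (e.symm.injective (Subtype.ext h)))
  have hmem : ∀ x : G, x * t = t * x ↔ ∃ c ∈ cList, el c = x := by
    intro x
    constructor
    · intro hx
      obtain ⟨c, hc, hce⟩ := (K.mem_iff _).1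
        (Subgroup.mem_centralizer_singleton_iff.1 (e ⟨x, Subgroup.mem_centralizer_singleton_iff.2 hx⟩).2)
      refine ⟨c, hc, ?_⟩
      rw [hel c hc, show (⟨K.el c, hmemK c hc⟩ : Subgroup.centralizer ({u} : Set ↥Spor.M12)) =
        e ⟨x, Subgroup.mem_centralizer_singleton_iff.2 hx⟩ from Subtype.ext hce, e.symm_apply_apply]
    · rintro ⟨c, hc, rfl⟩
      rw [hel c hc]
      exact Subgroup.mem_centralizer_singleton_iff.1 (e.symm _).2
  refine ⟨⟨el, hmem, hinj, hmul, K.closed, hid, ?_⟩⟩
  -- `t` is the only central involution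
  obtain ⟨c, hc, hce⟩ := (hmem t).1 rfl
  have h := List.all_eq_true.1 center_checks c hc
  simp only [Bool.or_eq_true, beq_iff_eq, List.any_eq_true, bne_iff_ne] at h
  rcases h with (h | h) | ⟨d, hd, hne⟩
  · rw [h, hid] at hce
    exact absurd hce.symm (CfsgLib.Small.ne_one_of_orderOf_two ht)
  · rw [← h]; exact hce
  · refine absurd (hinj _ (K.closed d hd c hc) _ (K.closed c hc d hd) ?_) hne
    rw [hmul d hd c hc, hmul c hc d hd, hce]
    exact (hmem _).2 ⟨d, hd, rfl⟩

end CfsgLib.MTwelveCent
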