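import Cfsg.Agent.MTwelveCent.Fusion

/-!
When the involutions with centraliser of order 8 in `C(t)` are not conjugate to `t`, the normalizer
of the elementary group of order 8 has order `7 * 192`.
-/

set_option autoImplicit false

namespace CfsgLib.MTwelveCent

open Cfsg CfsgLib.FusionSimple.MathieuTab

/-- The elementary group of order 8. -/
def fList : List ℕ := idT :: zT :: clA

theorem fList_checks : (closedOK fList && fList.length == 8 &&
    fList.all (fun c => cList.contains c && fList.all fun d => mulT c d == mulT d c)) = true := by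
  decide +kernel

theorem fList_nodup : fList.Nodup := by decide +kernel

universe u

namespace Coded

variable {G : Type u} [Group G] [Finite G] {t : G} (K : Coded t)
include K

theorem exists_subgroup_seven_mul [IsSimpleGroup G]
    (hE : ∀ x ∈ K.img clE, IsConj (K.el bT) x) :
    ∃ N : Subgroup G, Nat.card N = 1344 ∧ N ≠ ⊤ := by
  classical
  obtain ⟨hA, hB, -, -⟩ := K.classes
  have hbt : ¬ IsConj t (K.el bT) := hB _ ⟨bT, bT_mem_clB, rfl⟩
  obtain ⟨⟨h1, h2⟩, h3⟩ : (_ ∧ _) ∧ _ := by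
    simpa only [Bool.and_eq_true] using fList_checks
  have hsub : ∀ c ∈ fList, c ∈ cList := fun c hc =>
    List.contains_iff_mem.1 (Bool.and_eq_true_iff.1 (List.all_eq_true.1 h3 c hc)).1
  set F := K.sub fList hsub (show idT ∈ fList from List.mem_cons_self) h1 with hF
  have hFc : Nat.card F = 8 := by rw [hF, K.card_sub fList_nodup]; exact beq_iff_eq.1 h2
  have hcomm : ∀ y ∈ F, ∀ z ∈ F, y * z = z * y := by
    rintro _ ⟨c, hc, rfl⟩ _ ⟨d, hd, rfl⟩
    exact (K.mul_eq_mul_iff (hsub c hc) (hsub d hd) (hsub d hd) (hsub c hc)).2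
      (beq_iff_eq.1 (List.all_eq_true.1 (Bool.and_eq_true_iff.1 (List.all_eq_true.1 h3 c hc)).2 d hd))
  have htF : t ∈ F := ⟨zT, List.mem_cons_of_mem _ List.mem_cons_self, K.el_z⟩
  -- members of `F`
  have hFclass : ∀ y ∈ F, y ≠ 1 → IsConj t y := by
    rintro _ ⟨c, hc, rfl⟩ h1
    rcases List.mem_cons.1 hc with h | hc
    · exact absurd (h ▸ K.el_id) h1
    rcases List.mem_cons.1 hc with h | hc
    · rw [h, K.el_z]
    · exact hA _ ⟨c, hc, rfl⟩
  have hinto : ∀ y, IsConj t y → y * t = t * y → y ∈ F := by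
    intro y hy hyt
    have hy2 : orderOf y = 2 := by
      obtain ⟨g, rfl⟩ := isConj_iff.1 hy
      rw [CfsgLib.Small.orderOf_conj_eq, K.orderOf_t]
    rcases K.invol_cases hyt hy2 with h | ⟨c, hc, rfl⟩ | h | h
    · exact h ▸ htF
    · exact ⟨c, List.mem_cons_of_mem _ (List.mem_cons_of_mem _ hc), rfl⟩
    · exact absurd hy (hB y h)
    · exact absurd (hy.trans (hE y h).symm) hbt
  set N := Subgroup.normalizer (F : Set G) with hN
  have hNmem : ∀ g : G, (∀ y ∈ F, g * y * g⁻¹ ∈ F) → g ∈ N := by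
    intro g hg
    let f : F → F := fun y => ⟨g * y * g⁻¹, hg y y.2⟩
    have hf : Function.Injective f := fun a b h =>
      Subtype.ext (mul_left_cancel (mul_right_cancel (congrArg Subtype.val h)))
    rw [hN, Subgroup.mem_normalizer_iff]
    intro y
    refine ⟨hg y, fun h => ?_⟩
    obtain ⟨z, hz⟩ := (Finite.surjective_of_injective hf) ⟨_, h⟩
    have := mul_left_cancel (mul_right_cancel (congrArg Subtype.val hz))
    exact this ▸ z.2
  -- members moving `t` into `F`
  have hmove : ∀ g : G, g * t * g⁻¹ ∈ F → g ∈ N := by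
    intro g hgF
    refine hNmem g fun y hy => ?_
    by_cases hy1 : y = 1
    · rw [hy1, mul_one, mul_inv_cancel]; exact F.one_mem
    refine hinto _ ((hFclass y hy hy1).trans (isConj_iff.2 ⟨g, rfl⟩)) ?_
    -- the preimage of `t` lies in `F`
    have hgt : g * t * g⁻¹ * t = t * (g * t * g⁻¹) := hcomm _ hgF _ htF
    have hpre : g⁻¹ * t * g ∈ F := by
      refine hinto _ (isConj_iff.2 ⟨g⁻¹, by rw [inv_inv]⟩) ?_
      calc g⁻¹ * t * g * t = g⁻¹ * (t * (g * t * g⁻¹)) * g := by group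
        _ = g⁻¹ * (g * t * g⁻¹ * t) * g := by rw [hgt]
        _ = t * (g⁻¹ * t * g) := by group
    calc g * y * g⁻¹ * t = g * (y * (g⁻¹ * t * g)) * g⁻¹ := by group
      _ = g * (g⁻¹ * t * g * y) * g⁻¹ := by rw [hcomm y hy _ hpre]
      _ = t * (g * y * g⁻¹) := by group
  have hCN : ∀ g : G, g * t = t * g → g ∈ N := fun g hg => hmove g (by
    rw [hg, mul_inv_cancel_right]; exact htF)
  have htN : t ∈ N := hCN t rfl
  have hcl : Nat.card {g : N // IsConj (⟨t, htN⟩ : N) g} = 7 := by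
    have hne : Nat.card {y : F // y ≠ 1} = 7 := by
      haveI := Fintype.ofFinite F
      have h := Nat.card_eq_fintype_card (α := {y : F // y ≠ 1})
      rw [Fintype.card_subtype_compl, Fintype.card_subtype_eq, ← Nat.card_eq_fintype_card, hFc] at h
      exact h
    rw [← hne]
    have hinF : ∀ g : {g : N // IsConj (⟨t, htN⟩ : N) g}, ((g.1 : N) : G) ∈ F := by
      rintro ⟨g, hg⟩
      obtain ⟨c, rfl⟩ := isConj_iff.1 hg
      exact (Subgroup.mem_normalizer_iff.1 c.2 t).1 htF
    have hne1 : ∀ g : {g : N // IsConj (⟨t, htN⟩ : N) g}, (⟨_, hinF g⟩ : F) ≠ 1 := by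
      rintro ⟨g, hg⟩ h
      obtain ⟨c, rfl⟩ := isConj_iff.1 hg
      exact CfsgLib.Small.ne_one_of_orderOf_two K.orderOf_t
        (conj_eq_one_iff.1 (congrArg Subtype.val h))
    refine Nat.card_congr (Equiv.ofBijective (fun g => ⟨⟨_, hinF g⟩, hne1 g⟩) ⟨?_, ?_⟩)
    · intro a b h
      exact Subtype.ext (Subtype.ext
        (congrArg (fun y : {y : F // y ≠ 1} => (y.1 : G)) h))
    · rintro ⟨⟨y, hy⟩, hy1⟩
      have hy1' : y ≠ 1 := fun h => hy1 (Subtype.ext h)
      obtain ⟨g, hg⟩ := isConj_iff.1 (hFclass y hy hy1')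
      have hgN : g ∈ N := hmove g (hg.symm ▸ hy)
      refine ⟨⟨⟨g, hgN⟩ * ⟨t, htN⟩ * ⟨g, hgN⟩⁻¹, isConj_iff.2 ⟨⟨g, hgN⟩, rfl⟩⟩, ?_⟩
      exact Subtype.ext (Subtype.ext hg)
  have hcN : Nat.card (Subgroup.centralizer ({(⟨t, htN⟩ : N)} : Set N)) = 192 := by
    rw [← K.card_centralizer]
    exact Nat.card_congr
      ⟨fun c => ⟨(c.1 : G), Subgroup.mem_centralizer_singleton_iff.2
          (congrArg Subtype.val (Subgroup.mem_centralizer_singleton_iff.1 c.2))⟩,
        fun c => ⟨⟨c.1, hCN c.1 (Subgroup.mem_centralizer_singleton_iff.1 c.2)⟩,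
          Subgroup.mem_centralizer_singleton_iff.2
            (Subtype.ext (Subgroup.mem_centralizer_singleton_iff.1 c.2))⟩,
        fun c => rfl, fun c => rfl⟩
  have h := CfsgLib.Small.card_conjugates_mul_card_centralizer (⟨t, htN⟩ : N)
  rw [hcl, hcN] at h
  refine ⟨N, h.symm, fun htop => ?_⟩
  have hFn : F.Normal := Subgroup.normalizer_eq_top_iff.1 (hN ▸ htop)
  rcases hFn.eq_bot_or_eq_top with h' | h'
  · rw [h', Subgroup.card_bot] at hFc
    norm_num at hFc
  · have := h.symm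
    rw [htop, Subgroup.card_top] at this
    rw [h', Subgroup.card_top, this] at hFc
    norm_num at hFc

end Coded

end CfsgLib.MTwelveCent
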