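import Cfsg.Agent.MTwelveCent.Fusion

/-!
When the involutions with centraliser of order 8 in `C(t)` are conjugate to `t`, pairs of conjugates
of `t` whose product has order 3 show that the group has order at least 12288.
-/

set_option autoImplicit false

namespace CfsgLib.MTwelveCent

open Cfsg CfsgLib.FusionSimple.MathieuTab

theorem three_checks : (cList.contains xT && !(xT == idT) && mulT xT (mulT xT xT) == idT &&
    mulT zT xT == mulT xT zT && mulT eT xT == mulT (mulT xT xT) eT && clE.contains (mulT eT zT) &&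
    (centList xT).length == 6 && (centList xT).all fun c =>
      !(mulT c eT == mulT (mulT eT zT) c)) = true := by decide +kernel

theorem dvd_six {d : ℕ} (h : d ∣ 192) (h4 : ¬ 4 ∣ d) : d ∣ 6 := by
  have hmem : d ∈ Nat.divisors 192 := Nat.mem_divisors.2 ⟨h, by norm_num⟩
  have key : ∀ d ∈ Nat.divisors 192, 4 ∣ d ∨ d ∣ 6 := by decide +kernel
  exact (key d hmem).resolve_left h4

universe u

/-- Two involutions of a finite group whose order divides 6 are conjugate. -/
theorem isConj_of_card_dvd_six {H : Type u} [Group H] [Finite H] (hH : Nat.card H ∣ 6) {a b : H}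
    (ha : orderOf a = 2) (hb : orderOf b = 2) : IsConj a b := by
  haveI : Fact (Nat.Prime 2) := ⟨Nat.prime_two⟩
  obtain ⟨P, hP⟩ := (IsPGroup.of_card (n := 1) (show Nat.card (Subgroup.zpowers a) = 2 ^ 1 by
    rw [Nat.card_zpowers, ha, pow_one])).exists_le_sylow
  obtain ⟨R, hR⟩ := (IsPGroup.of_card (n := 1) (show Nat.card (Subgroup.zpowers b) = 2 ^ 1 by
    rw [Nat.card_zpowers, hb, pow_one])).exists_le_sylow
  have hsmall : ∀ S : Sylow 2 H, ∀ c : H, orderOf c = 2 → c ∈ S →
      (S : Subgroup H) = Subgroup.zpowers c := by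
    intro S c hc hcS
    refine (Subgroup.eq_of_le_of_card_ge (Subgroup.zpowers_le.2 hcS) ?_).symm
    obtain ⟨k, hk⟩ := S.isPGroup'.exists_card_eq
    have hd := (Subgroup.card_subgroup_dvd_card (S : Subgroup H)).trans hH
    rw [hk] at hd
    rw [Nat.card_zpowers, hc, hk]
    have hk1 : k ≤ 1 := by
      by_contra hk2
      have := (Nat.pow_dvd_pow 2 (show 2 ≤ k by omega)).trans hd
      norm_num at this
    exact (Nat.pow_le_pow_right two_pos hk1).trans (pow_one 2).le
  obtain ⟨g, hg⟩ := MulAction.exists_smul_eq H P R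
  refine isConj_iff.2 ⟨g, ?_⟩
  have hmem : g * a * g⁻¹ ∈ (R : Subgroup H) := by
    rw [← hg, Sylow.coe_subgroup_smul]
    exact Subgroup.smul_mem_pointwise_smul a (MulAut.conj g) P (hP (Subgroup.mem_zpowers a))
  rw [hsmall R b hb (hR (Subgroup.mem_zpowers b))] at hmem
  obtain ⟨i, hi : b ^ i = g * a * g⁻¹⟩ := hmem
  rw [← zpow_mod_orderOf, hb] at hi
  rcases Int.emod_two_eq_zero_or_one i with h | h <;> rw [show ((2 : ℕ) : ℤ) = 2 from rfl, h] at hi
  · rw [zpow_zero] at hi
    exact absurd (conj_eq_one_iff.1 hi.symm) (CfsgLib.Small.ne_one_of_orderOf_two ha)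
  · rw [zpow_one] at hi
    exact hi.symm

namespace Coded

variable {G : Type u} [Group G] [Finite G] {t : G} (K : Coded t)
include K

theorem card_centralizer_of_isConj {u : G} (h : IsConj t u) :
    Nat.card (Subgroup.centralizer ({u} : Set G)) = 192 := by
  obtain ⟨g, rfl⟩ := isConj_iff.1 h
  exact (K.conj g).card_centralizer

theorem le_card (hE : ∀ x ∈ K.img clE, IsConj t x) : 12288 ≤ Nat.card G := by
  classical
  haveI : Fact (Nat.Prime 2) := ⟨Nat.prime_two⟩
  have hchk := three_checks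
  simp only [Bool.and_eq_true, List.contains_iff_mem, Bool.not_eq_true', beq_eq_false_iff_ne,
    beq_iff_eq, List.all_eq_true] at hchk
  obtain ⟨⟨⟨⟨⟨⟨⟨hxc, hx1⟩, hx3⟩, hzx⟩, hex⟩, hez⟩, hlen⟩, hnc⟩ := hchk
  set x := K.el xT with hx
  set e := K.el eT with he
  have hxne : x ≠ 1 := K.el_ne_one hxc hx1
  have hxxx : x * (x * x) = 1 := by
    rw [hx, ← K.mul xT hxc xT hxc, ← K.mul xT hxc _ (K.closed xT hxc xT hxc), hx3, K.el_id]
  have hxinv : x⁻¹ = x * x := inv_eq_of_mul_eq_one_right hxxx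
  have hxt : x * t = t * x := K.commute hxc
  have hexi : e * x = x⁻¹ * e := by
    rw [hxinv, hx, he, ← K.mul xT hxc xT hxc,
      ← K.mul eT mem_eT xT hxc, ← K.mul _ (K.closed xT hxc xT hxc) eT mem_eT, hex]
  have het : IsConj t e := hE e ⟨eT, eT_mem_clE, rfl⟩
  have hetT : e * t = K.el (mulT eT zT) := by rw [K.mul eT mem_eT zT mem_zT, K.el_z]
  have hett : IsConj t (e * t) := hE _ ⟨mulT eT zT, hez, hetT.symm⟩
  have hetx : e * t * x = x⁻¹ * (e * t) := by
    rw [mul_assoc, ← hxt, ← mul_assoc, hexi, mul_assoc]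
  set D := Subgroup.centralizer ({x} : Set G) with hD
  have htD : t ∈ D := Subgroup.mem_centralizer_singleton_iff.2 hxt.symm
  -- the 2-part of `D`
  have h4 : ¬ 4 ∣ Nat.card D := by
    intro h
    obtain ⟨P, hP⟩ := ((IsPGroup.of_card (n := 1) (show Nat.card (Subgroup.zpowers (⟨t, htD⟩ : D))
      = 2 ^ 1 by rw [Nat.card_zpowers, ← Subgroup.orderOf_coe, K.orderOf_t, pow_one]))).exists_le_sylow
    have hP4 : 4 ∣ Nat.card (P : Subgroup D) := P.pow_dvd_card_of_pow_dvd_card (n := 2) h
    have hlt : Subgroup.zpowers (⟨t, htD⟩ : D) < (P : Subgroup D) := by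
      refine lt_of_le_of_ne hP fun e => ?_
      rw [← e, Nat.card_zpowers, ← Subgroup.orderOf_coe, K.orderOf_t] at hP4
      norm_num at hP4
    set Z := (Subgroup.zpowers (⟨t, htD⟩ : D)).subgroupOf (P : Subgroup D)
    have hltP : Z < ⊤ := lt_top_iff_ne_top.2 fun e =>
      hlt.not_ge (Subgroup.subgroupOf_eq_top.1 e)
    haveI : Group.IsNilpotent (P : Subgroup D) := P.isPGroup'.isNilpotent
    obtain ⟨n, hn, hnZ⟩ := SetLike.exists_of_lt (Group.normalizerCondition_of_isNilpotent _ hltP)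
    rw [Subgroup.mem_normalizer_iff] at hn
    have htZ : (⟨⟨t, htD⟩, hP (Subgroup.mem_zpowers _)⟩ : (P : Subgroup D)) ∈ Z :=
      Subgroup.mem_zpowers _
    have hmem := (hn _).1 htZ
    obtain ⟨i, hi⟩ := hmem
    have hi' : t ^ i = ((n : D) : G) * t * ((n : D) : G)⁻¹ := congrArg Subtype.val hi
    have hnt : ((n : D) : G) * t = t * ((n : D) : G) := by
      refine mul_inv_eq_iff_eq_mul.1 ?_
      rw [← hi', ← zpow_mod_orderOf, K.orderOf_t]
      rcases Int.emod_two_eq_zero_or_one i with h | h <;>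
        rw [show ((2 : ℕ) : ℤ) = 2 from rfl, h]
      · exfalso
        rw [← zpow_mod_orderOf, K.orderOf_t, show ((2 : ℕ) : ℤ) = 2 from rfl, h, zpow_zero] at hi'
        exact CfsgLib.Small.ne_one_of_orderOf_two K.orderOf_t (conj_eq_one_iff.1 hi'.symm)
      · exact zpow_one t
    set T := ((P : Subgroup D).map D.subtype) ⊓ Subgroup.centralizer ({t} : Set G)
    have hTle : T ≤ D ⊓ Subgroup.centralizer ({t} : Set G) :=
      inf_le_inf_right _ (Subgroup.map_subtype_le _)
    have hd := Subgroup.card_dvd_of_le hTle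
    rw [show Nat.card (D ⊓ Subgroup.centralizer ({t} : Set G) : Subgroup G) = 6 by
      rw [← hlen, ← K.card_cent hxc]
      exact Nat.card_congr (Equiv.subtypeEquivRight fun g => by
        rw [Subgroup.mem_inf, hD, Subgroup.mem_centralizer_singleton_iff,
          Subgroup.mem_centralizer_singleton_iff]
        exact and_comm)] at hd
    obtain ⟨k, hk⟩ := ((P.isPGroup'.map D.subtype).to_le (inf_le_left : T ≤ _)).exists_card_eq
    have htT : t ∈ T := ⟨⟨⟨t, htD⟩, hP (Subgroup.mem_zpowers _), rfl⟩,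
      Subgroup.mem_centralizer_singleton_iff.2 rfl⟩
    have hTt : T = Subgroup.zpowers t := by
      refine (Subgroup.eq_of_le_of_card_ge (Subgroup.zpowers_le.2 htT) ?_).symm
      rw [hk] at hd ⊢
      rw [Nat.card_zpowers, K.orderOf_t]
      have hk1 : k ≤ 1 := by
        by_contra hk2
        have := (Nat.pow_dvd_pow 2 (show 2 ≤ k by omega)).trans hd
        norm_num at this
      exact (Nat.pow_le_pow_right two_pos hk1).trans (pow_one 2).le
    have hnT : ((n : D) : G) ∈ T :=
      ⟨⟨(n : D), n.2, rfl⟩, Subgroup.mem_centralizer_singleton_iff.2 hnt⟩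
    rw [hTt] at hnT
    obtain ⟨j, hj⟩ := hnT
    exact hnZ ⟨j, Subtype.ext hj⟩
  -- the two stabilisers
  have hstab : ∀ u : G, IsConj t u → Nat.card (D ⊓ Subgroup.centralizer ({u} : Set G) : Subgroup G) ∣ 6 :=
    fun u hu => dvd_six (K.card_centralizer_of_isConj hu ▸ Subgroup.card_dvd_of_le inf_le_right)
      fun h => h4 (h.trans (Subgroup.card_dvd_of_le inf_le_left))
  -- the two orbits are different
  have hdisj : ∀ k ∈ D, k * e * k⁻¹ ≠ e * t := by
    intro k hk hke
    set H := D ⊓ Subgroup.centralizer ({e * t} : Set G)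
    have het2 : t * (e * t) = e * t * t := by
      rw [← mul_assoc, ← (K.commute mem_eT)]
    have htH : t ∈ H := ⟨htD, Subgroup.mem_centralizer_singleton_iff.2 het2⟩
    have ht'H : k * t * k⁻¹ ∈ H := by
      refine ⟨D.mul_mem (D.mul_mem hk htD) (D.inv_mem hk), Subgroup.mem_centralizer_singleton_iff.2 ?_⟩
      rw [← hke, conj_mul, conj_mul, ← K.commute mem_eT]
    have hc : IsConj (⟨k * t * k⁻¹, ht'H⟩ : H) ⟨t, htH⟩ :=
      isConj_of_card_dvd_six (hstab _ hett)
        (by rw [← Subgroup.orderOf_coe]; exact (CfsgLib.Small.orderOf_conj_eq k t).trans K.orderOf_t)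
        (by rw [← Subgroup.orderOf_coe]; exact K.orderOf_t)
    obtain ⟨⟨d, hdD, hdC⟩, hd⟩ := isConj_iff.1 hc
    have hd' : d * (k * t * k⁻¹) * d⁻¹ = t := congrArg Subtype.val hd
    have hgD : d * k ∈ D := D.mul_mem hdD hk
    have hgt : d * k * t = t * (d * k) := by
      calc d * k * t = d * (k * t * k⁻¹) * d⁻¹ * (d * k) := by group
        _ = t * (d * k) := by rw [hd']
    obtain ⟨c, hc, hce⟩ := (K.mem_cent_iff hxc (d * k)).1
      ⟨hgt, Subgroup.mem_centralizer_singleton_iff.1 hgD⟩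
    refine hnc c hc ?_
    have hcc := (List.mem_filter.1 hc).1
    refine (K.mul_eq_mul_iff hcc mem_eT (K.closed eT mem_eT zT mem_zT) hcc).1 ?_
    rw [K.mul eT mem_eT zT mem_zT, K.el_z, ← he, hce]
    calc d * k * e = d * (k * e * k⁻¹) * k := by group
      _ = d * (e * t) * k := by rw [hke]
      _ = e * t * (d * k) := by
        rw [Subgroup.mem_centralizer_singleton_iff.1 hdC]
        group
  -- inverting conjugates of `t`
  let I := {u : G // IsConj t u ∧ u * x = x⁻¹ * u}
  have horb : ∀ u : G, IsConj t u → u * x = x⁻¹ * u → ∀ c ∈ D,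
      IsConj t (c * u * c⁻¹) ∧ c * u * c⁻¹ * x = x⁻¹ * (c * u * c⁻¹) := by
    intro u hu hux c hc
    refine ⟨hu.trans (isConj_iff.2 ⟨c, rfl⟩), ?_⟩
    have hcx : c * x = x * c := Subgroup.mem_centralizer_singleton_iff.1 hc
    have hcx' : c⁻¹ * x = x * c⁻¹ := by
      calc c⁻¹ * x = c⁻¹ * (x * c) * c⁻¹ := by group
        _ = x * c⁻¹ := by rw [← hcx]; group
    have hcxi : c * x⁻¹ = x⁻¹ * c := by
      calc c * x⁻¹ = x⁻¹ * (x * c) * x⁻¹ := by group
        _ = x⁻¹ * c := by rw [← hcx]; group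
    calc c * u * c⁻¹ * x = c * u * (c⁻¹ * x) := mul_assoc _ _ _
      _ = c * (u * x) * c⁻¹ := by rw [hcx']; group
      _ = c * x⁻¹ * u * c⁻¹ := by rw [hux]; group
      _ = x⁻¹ * (c * u * c⁻¹) := by rw [hcxi]; group
  let st (u : G) := (D ⊓ Subgroup.centralizer ({u} : Set G)).subgroupOf D
  have hwell : ∀ u : G, ∀ a b : D, a⁻¹ * b ∈ st u →
      (a : G) * u * (a : G)⁻¹ = b * u * (b : G)⁻¹ := by
    intro u a b h
    have h' := Subgroup.mem_centralizer_singleton_iff.1 (show ((a⁻¹ * b : D) : G) ∈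
      Subgroup.centralizer ({u} : Set G) from h.2)
    simp only [Subgroup.coe_mul, Subgroup.coe_inv] at h'
    calc (a : G) * u * (a : G)⁻¹ = a * (u * ((a : G)⁻¹ * b)) * (b : G)⁻¹ := by group
      _ = b * u * (b : G)⁻¹ := by rw [← h']; group
  have hsame : ∀ u : G, ∀ a b : D, (a : G) * u * (a : G)⁻¹ = b * u * (b : G)⁻¹ → a⁻¹ * b ∈ st u := by
    intro u a b h
    refine ⟨(a⁻¹ * b : D).2, Subgroup.mem_centralizer_singleton_iff.2 ?_⟩
    show (a : G)⁻¹ * b * u = u * ((a : G)⁻¹ * b)
    calc (a : G)⁻¹ * b * u = (a : G)⁻¹ * (b * u * (b : G)⁻¹) * b := by group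
      _ = u * ((a : G)⁻¹ * b) := by rw [← h]; group
  let f : (D ⧸ st e) ⊕ (D ⧸ st (e * t)) → I := Sum.elim
    (fun q => ⟨_, horb e het hexi q.out q.out.2⟩) (fun q => ⟨_, horb (e * t) hett hetx q.out q.out.2⟩)
  have hf : Function.Injective f := by
    rintro (q | q) (q' | q') h <;> have h' := congrArg Subtype.val h <;>
      simp only [f, Sum.elim_inl, Sum.elim_inr] at h'
    · exact congrArg _ (by
        rw [← Quotient.out_eq q, ← Quotient.out_eq q']
        exact QuotientGroup.eq.2 (hsame e _ _ h'))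
    · refine absurd ?_ (hdisj _ (q'.out⁻¹ * q.out : D).2)
      calc ((q'.out⁻¹ * q.out : D) : G) * e * ((q'.out⁻¹ * q.out : D) : G)⁻¹
          = (q'.out : G)⁻¹ * ((q.out : G) * e * (q.out : G)⁻¹) * q'.out := by
            simp [mul_assoc]
        _ = e * t := by rw [h']; group
    · refine absurd ?_ (hdisj _ (q.out⁻¹ * q'.out : D).2)
      calc ((q.out⁻¹ * q'.out : D) : G) * e * ((q.out⁻¹ * q'.out : D) : G)⁻¹
          = (q.out : G)⁻¹ * ((q'.out : G) * e * (q'.out : G)⁻¹) * q.out := by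
            simp [mul_assoc]
        _ = e * t := by rw [← h']; group
    · exact congrArg _ (by
        rw [← Quotient.out_eq q, ← Quotient.out_eq q']
        exact QuotientGroup.eq.2 (hsame (e * t) _ _ h'))
  have hI : Nat.card D ≤ 3 * Nat.card I := by
    have h1 := Nat.card_le_card_of_injective f hf
    rw [Nat.card_sum] at h1
    have h2 : ∀ u : G, IsConj t u → Nat.card D ≤ 6 * Nat.card (D ⧸ st u) := by
      intro u hu
      rw [(st u).card_eq_card_quotient_mul_card_subgroup, mul_comm 6]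
      refine Nat.mul_le_mul_left _ ?_
      rw [Nat.card_congr (Subgroup.subgroupOfEquivOfLe inf_le_left).toEquiv]
      exact Nat.le_of_dvd (by norm_num) (hstab u hu)
    have := h2 e het
    have := h2 _ hett
    omega
  -- the pairs
  let Y := {y : G // IsConj x y}
  let T := {u : G // IsConj t u}
  have hux : ∀ u : I, IsConj t (u.1 * x) := fun u => u.2.1.trans (isConj_iff.2 ⟨x, by
    have h := u.2.2
    calc x * u.1 * x⁻¹ = x * (u.1 * x) * x⁻¹ * x⁻¹ := by group
      _ = u.1 * (x⁻¹ * x⁻¹) := by rw [h]; group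
      _ = u.1 * x := by
        rw [← mul_inv_rev, ← hxinv, inv_inv]⟩)
  let p : Y × I → T × T := fun q =>
    (⟨_, (q.2.2.1).trans (isConj_iff.2 ⟨(isConj_iff.1 q.1.2).choose, rfl⟩)⟩,
      ⟨_, (hux q.2).trans (isConj_iff.2 ⟨(isConj_iff.1 q.1.2).choose, rfl⟩)⟩)
  have hp : Function.Injective p := by
    rintro ⟨y, u⟩ ⟨y', u'⟩ h
    have h1 := congrArg (fun q : T × T => (q.1 : G)) h
    have h2 := congrArg (fun q : T × T => (q.2 : G)) h
    simp only [p] at h1 h2
    have hy : y = y' := by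
      have hu2 : ∀ v : I, v.1 * v.1 = 1 := fun v => by
        obtain ⟨g, hg⟩ := isConj_iff.1 v.2.1
        exact CfsgLib.Small.mul_self_of_orderOf_two
          (by rw [← hg, CfsgLib.Small.orderOf_conj_eq, K.orderOf_t])
      have key : ∀ (g : G) (v : I), g * v.1 * g⁻¹ * (g * (v.1 * x) * g⁻¹) = g * x * g⁻¹ :=
        fun g v => by rw [conj_mul, ← mul_assoc v.1, hu2, one_mul]
      have h3 : (isConj_iff.1 y.2).choose * x * (isConj_iff.1 y.2).choose⁻¹ =
          (isConj_iff.1 y'.2).choose * x * (isConj_iff.1 y'.2).choose⁻¹ := by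
        rw [← key _ u, ← key _ u', h1, h2]
      rw [(isConj_iff.1 y.2).choose_spec, (isConj_iff.1 y'.2).choose_spec] at h3
      exact Subtype.ext h3
    subst hy
    exact Prod.ext rfl (Subtype.ext (mul_left_cancel (mul_right_cancel h1)))
  have hle := Nat.card_le_card_of_injective p hp
  rw [Nat.card_prod, Nat.card_prod] at hle
  have hY := CfsgLib.Small.card_conjugates_mul_card_centralizer (G := G) x
  have hT := CfsgLib.Small.card_conjugates_mul_card_centralizer (G := G) t
  rw [K.card_centralizer] at hT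
  have hG0 : 0 < Nat.card G := Nat.card_pos
  have hmain : Nat.card G * (192 * 192) ≤ Nat.card G * (3 * Nat.card G) := by
    calc Nat.card G * (192 * 192) = Nat.card Y * Nat.card D * (192 * 192) := by rw [hY]
      _ ≤ Nat.card Y * (3 * Nat.card I) * (192 * 192) := by gcongr
      _ = 3 * (Nat.card Y * Nat.card I) * (192 * 192) := by ring
      _ ≤ 3 * (Nat.card T * Nat.card T) * (192 * 192) := by gcongr
      _ = 3 * ((Nat.card T * 192) * (Nat.card T * 192)) := by ring
      _ = Nat.card G * (3 * Nat.card G) := by rw [hT]; ring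
  have := Nat.le_of_mul_le_mul_left hmain hG0
  omega

end Coded

end CfsgLib.MTwelveCent
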