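import Cfsg.Agent.MTwelveCent.CentB
import Cfsg.Agent.MTwelveCent.PairBound
import Cfsg.Agent.MTwelveCent.FourGroup
import Cfsg.Agent.Small.ThompsonOrder

/-!
A simple group with a coded involution centraliser has order 95040.
-/

set_option autoImplicit false

namespace CfsgLib.MTwelveCent

open Cfsg CfsgLib.FusionSimple.MathieuTab

theorem at_checks : ((pairList (zT :: clA ++ clE) clB zT).length == 240 &&
    (pairList (zT :: clA) (clB ++ clE) zT).length == 48) = true := by decide +kernel

theorem at_nodup : (zT :: clA ++ clE).Nodup ∧ clB.Nodup ∧ (zT :: clA).Nodup ∧ (clB ++ clE).Nodup := by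
  decide +kernel

universe u

namespace Coded

variable {G : Type u} [Group G] [Finite G] {t : G} (K : Coded t)
include K

theorem card_eq [IsSimpleGroup G] : Nat.card G = 95040 := by
  obtain ⟨hA, hB, hE, hall⟩ := K.classes
  have hb2 := K.el_order_two (c := bT) (by simp [bT_mem_clB])
  have hnc := K.not_isConj_el_bT
  have hb : ∀ x ∈ K.img clB, IsConj (K.el bT) x := fun x hx =>
    K.isConj_of_mem (Or.inr (Or.inl rfl)) ⟨bT, bT_mem_clB, rfl⟩ hx
  have hord := CfsgLib.Small.thompson_order t (K.el bT) K.orderOf_t hb2 hnc hall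
  rw [K.card_centralizer] at hord
  obtain ⟨hchkA, hchkB⟩ := Bool.and_eq_true_iff.1 at_checks
  obtain ⟨hn1, hn2, hn3, hn4⟩ := at_nodup
  -- pairs at `t` lie in `C(t)`
  have hpair : ∀ u w : G, IsConj t u → IsConj (K.el bT) w → t ∈ Subgroup.zpowers (u * w) →
      (u = t ∨ u ∈ K.img clA ∨ u ∈ K.img clB ∨ u ∈ K.img clE) ∧
      (w = t ∨ w ∈ K.img clA ∨ w ∈ K.img clB ∨ w ∈ K.img clE) := by
    intro u w hu hw h
    have hu2 : orderOf u = 2 := by
      obtain ⟨g, rfl⟩ := isConj_iff.1 hu
      rw [CfsgLib.Small.orderOf_conj_eq, K.orderOf_t]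
    have hw2 : orderOf w = 2 := by
      obtain ⟨g, rfl⟩ := isConj_iff.1 hw
      rw [CfsgLib.Small.orderOf_conj_eq, hb2]
    obtain ⟨h1, h2⟩ := commute_of_mem_zpowers (CfsgLib.Small.mul_self_of_orderOf_two hu2)
      (CfsgLib.Small.mul_self_of_orderOf_two hw2) K.mul_t_self h
    exact ⟨K.invol_cases h1 hu2, K.invol_cases h2 hw2⟩
  have hswap : ∀ u : G, IsConj t u → ¬ IsConj (K.el bT) u := fun u h h' => hnc (h.trans h'.symm)
  have himg : ∀ {l l' : List ℕ}, (∀ c ∈ l, c ∈ l') → ∀ {x : G}, x ∈ K.img l → x ∈ K.img l' :=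
    fun hsub x ⟨c, hc, e⟩ => ⟨c, hsub c hc, e⟩
  have hz : ∀ {l : List ℕ} {x : G}, x = t → x ∈ K.img (zT :: l) := fun h =>
    ⟨zT, List.mem_cons_self, h ▸ K.el_z⟩
  rcases hE with hE | hE
  · -- the outer involutions are conjugate to `t`
    have hat : Nat.card {p : G × G // IsConj t p.1 ∧ IsConj (K.el bT) p.2 ∧
        t ∈ Subgroup.zpowers (p.1 * p.2)} = 240 := by
      have h := K.card_pairs (lu := zT :: clA ++ clE) (lw := clB) ?_ (fun c h => clB_sub h) hn1 hn2
        mem_zT (IsConj t) (IsConj (K.el bT)) ?_ ?_ ?_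
      · rw [beq_iff_eq.1 hchkA] at h
        simpa only [K.el_z] using h
      · intro c hc
        simp only [List.mem_append, List.mem_cons] at hc
        rcases hc with (rfl | hc) | hc
        exacts [mem_zT, clA_sub hc, clE_sub hc]
      · intro u w hu hw h
        rw [K.el_z] at h
        obtain ⟨h1, h2⟩ := hpair u w hu hw h
        constructor
        · rcases h1 with h1 | h1 | h1 | h1
          · exact himg (fun c hc => List.mem_append_left _ hc) (hz h1)
          · exact himg (fun c hc => List.mem_append_left _ (List.mem_cons_of_mem _ hc)) h1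
          · exact absurd (hb u h1) (hswap u hu)
          · exact himg (fun c hc => List.mem_append_right _ hc) h1
        · rcases h2 with h2 | h2 | h2 | h2
          · exact absurd hw (hswap w (h2 ▸ IsConj.refl t))
          · exact absurd hw (hswap w (hA w h2))
          · exact h2
          · exact absurd hw (hswap w (hE w h2))
      · intro c hc
        simp only [List.mem_append, List.mem_cons] at hc
        rcases hc with (rfl | hc) | hc
        · rw [K.el_z]
        · exact hA _ ⟨c, hc, rfl⟩
        · exact hE _ ⟨c, hc, rfl⟩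
      · exact fun c hc => hb _ ⟨c, hc, rfl⟩
    rw [hat] at hord
    have hle := K.le_card hE
    rcases K.centB with ⟨hc, hp⟩ | ⟨hc, hp⟩ | ⟨hc, hp⟩ <;>
      simp only [CB, pairsB] at hc hp <;> rw [hc, hp] at hord <;> omega
  · have hat : Nat.card {p : G × G // IsConj t p.1 ∧ IsConj (K.el bT) p.2 ∧
        t ∈ Subgroup.zpowers (p.1 * p.2)} = 48 := by
      have h := K.card_pairs (lu := zT :: clA) (lw := clB ++ clE) ?_ ?_ hn3 hn4
        mem_zT (IsConj t) (IsConj (K.el bT)) ?_ ?_ ?_
      · rw [beq_iff_eq.1 hchkB] at h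
        simpa only [K.el_z] using h
      · intro c hc
        rcases List.mem_cons.1 hc with rfl | hc
        exacts [mem_zT, clA_sub hc]
      · intro c hc
        rcases List.mem_append.1 hc with hc | hc
        exacts [clB_sub hc, clE_sub hc]
      · intro u w hu hw h
        rw [K.el_z] at h
        obtain ⟨h1, h2⟩ := hpair u w hu hw h
        constructor
        · rcases h1 with h1 | h1 | h1 | h1
          · exact hz h1
          · exact himg (fun c hc => List.mem_cons_of_mem _ hc) h1
          · exact absurd (hb u h1) (hswap u hu)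
          · exact absurd (hE u h1) (hswap u hu)
        · rcases h2 with h2 | h2 | h2 | h2
          · exact absurd hw (hswap w (h2 ▸ IsConj.refl t))
          · exact absurd hw (hswap w (hA w h2))
          · exact himg (fun c hc => List.mem_append_left _ hc) h2
          · exact himg (fun c hc => List.mem_append_right _ hc) h2
      · intro c hc
        rcases List.mem_cons.1 hc with rfl | hc
        · rw [K.el_z]
        · exact hA _ ⟨c, hc, rfl⟩
      · intro c hc
        rcases List.mem_append.1 hc with hc | hc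
        exacts [hb _ ⟨c, hc, rfl⟩, hE _ ⟨c, hc, rfl⟩]
    rw [hat] at hord
    exfalso
    obtain ⟨N, hN, hNtop⟩ := K.exists_subgroup_seven_mul hE
    have hdvd : 1344 ∣ Nat.card G := hN ▸ Subgroup.card_subgroup_dvd_card N
    have hne : Nat.card G ≠ 1344 := fun h => hNtop (Subgroup.eq_top_of_card_eq N (hN.trans h.symm))
    rcases K.centB with ⟨hc, hp⟩ | ⟨hc, hp⟩ | ⟨hc, hp⟩ <;>
      simp only [CB, pairsB] at hc hp <;> rw [hc, hp] at hord <;> omega

end Coded

/-- A simple group with the centraliser of a 2-central involution of the dodecad stabiliser as an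
involution centraliser has order 95040. -/
theorem card_eq_of_iso {G : Type u} [Group G] [Finite G] [IsSimpleGroup G] (u : ↥Spor.M12)
    (hu : IsTwoCentralInvolution u) (t : G) (ht : orderOf t = 2)
    (e : ↥(Subgroup.centralizer ({t} : Set G)) ≃* ↥(Subgroup.centralizer ({u} : Set ↥Spor.M12))) :
    Nat.card G = 95040 := by
  obtain ⟨K⟩ := exists_coded u hu t ht e
  exact K.card_eq

end CfsgLib.MTwelveCent
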