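import Cfsg.Agent.MTwelveCent.Facts
import Mathlib.GroupTheory.Perm.Sign
import Mathlib.Data.ZMod.Basic
import Mathlib.Data.Fintype.Prod

/-!
Counting the pairs of involutions whose product has a given involution among its powers.
-/

set_option autoImplicit false

namespace CfsgLib.MTwelveCent

open CfsgLib.FusionSimple.MathieuTab

section General

variable {G : Type*} [Group G]

/-- An involution among the powers of a product of two involutions commutes with both. -/
theorem commute_of_mem_zpowers {u w z : G} (hu : u * u = 1) (hw : w * w = 1) (hz : z * z = 1)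
    (h : z ∈ Subgroup.zpowers (u * w)) : u * z = z * u ∧ w * z = z * w := by
  obtain ⟨k, rfl⟩ := h
  have hinv : ((u * w) ^ k)⁻¹ = (u * w) ^ k := inv_eq_of_mul_eq_one_left hz
  have hui : u⁻¹ = u := inv_eq_of_mul_eq_one_left hu
  have hwi : w⁻¹ = w := inv_eq_of_mul_eq_one_left hw
  constructor
  · refine mul_inv_eq_iff_eq_mul.1 ?_
    rw [← conj_zpow]
    calc (u * (u * w) * u⁻¹) ^ k = ((u * w)⁻¹) ^ k := by
          rw [← mul_assoc u, hu, one_mul, mul_inv_rev, hwi]
      _ = (u * w) ^ k := by rw [inv_zpow, hinv]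
  · refine mul_inv_eq_iff_eq_mul.1 ?_
    rw [← conj_zpow]
    calc (w * (u * w) * w⁻¹) ^ k = ((u * w)⁻¹) ^ k := by
          rw [show w * (u * w) * w⁻¹ = w * u by group, mul_inv_rev, hui, hwi]
      _ = (u * w) ^ k := by rw [inv_zpow, hinv]

/-- Membership in the cyclic group of an element of exponent dividing `N`. -/
theorem mem_zpowers_iff_lt {x z : G} {N : ℕ} (hN : 0 < N) (hx : x ^ N = 1) :
    z ∈ Subgroup.zpowers x ↔ ∃ k, k < N ∧ x ^ k = z := by
  refine ⟨?_, fun ⟨k, _, h⟩ => h ▸ Subgroup.npow_mem_zpowers x k⟩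
  rintro ⟨k, rfl⟩
  have hN' : (0 : ℤ) < N := by exact_mod_cast hN
  refine ⟨(k % N).toNat, ?_, ?_⟩
  · have := Int.emod_lt_of_pos k hN'
    have := Int.emod_nonneg k hN'.ne'
    omega
  · rw [← zpow_natCast, Int.toNat_of_nonneg (Int.emod_nonneg k hN'.ne')]
    show x ^ (k % (N : ℤ)) = x ^ k
    conv_rhs => rw [← Int.emod_add_ediv_mul k N, zpow_add, mul_comm (k / (N : ℤ)), zpow_mul,
      zpow_natCast, hx, one_zpow, mul_one]

end General

/-- Powers of a table. -/
def powT (p : ℕ) : ℕ → ℕ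
  | 0 => idT
  | k + 1 => mulT (powT p k) p

/-- Whether `z` is a power of `p`. -/
def inPow (p z : ℕ) : Bool := (List.range 24).any fun k => powT p k == z

/-- The pairs counted by the order formula. -/
def pairList (lu lw : List ℕ) (z : ℕ) : List (ℕ × ℕ) :=
  (lu.product lw).filter fun p => inPow (mulT p.1 p.2) z

theorem pow_checks : (cList.all fun p => powT p 24 == idT) = true := by decide +kernel

namespace Coded

variable {G : Type*} [Group G] {t : G} (K : Coded t)

theorem el_powT {p : ℕ} (hp : p ∈ cList) :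
    ∀ k, powT p k ∈ cList ∧ K.el (powT p k) = K.el p ^ k
  | 0 => ⟨mem_idT, by rw [pow_zero]; exact K.el_id⟩
  | k + 1 => by
    obtain ⟨h1, h2⟩ := el_powT hp k
    exact ⟨K.closed _ h1 p hp, by rw [powT, K.mul _ h1 p hp, h2, pow_succ]⟩

theorem inPow_iff {p z : ℕ} (hp : p ∈ cList) (hz : z ∈ cList) :
    inPow p z = true ↔ K.el z ∈ Subgroup.zpowers (K.el p) := by
  rw [mem_zpowers_iff_lt (N := 24) (by norm_num) (by
    rw [← (K.el_powT hp 24).2, beq_iff_eq.1 (List.all_eq_true.1 pow_checks p hp), K.el_id]),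
    inPow, List.any_eq_true]
  simp only [List.mem_range, beq_iff_eq]
  constructor
  · rintro ⟨k, hk, h⟩
    exact ⟨k, hk, by rw [← (K.el_powT hp k).2, h]⟩
  · rintro ⟨k, hk, h⟩
    exact ⟨k, hk, K.inj _ (K.el_powT hp k).1 z hz (by rw [(K.el_powT hp k).2, h])⟩

/-- Pairs whose members are listed, counted on tables. -/
theorem card_pairs {lu lw : List ℕ} (hlu : ∀ c ∈ lu, c ∈ cList) (hlw : ∀ c ∈ lw, c ∈ cList)
    (hu : lu.Nodup) (hw : lw.Nodup) {z : ℕ} (hz : z ∈ cList) (P Q : G → Prop)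
    (hPQ : ∀ u w, P u → Q w → K.el z ∈ Subgroup.zpowers (u * w) →
      u ∈ K.img lu ∧ w ∈ K.img lw)
    (hP : ∀ c ∈ lu, P (K.el c)) (hQ : ∀ c ∈ lw, Q (K.el c)) :
    Nat.card {p : G × G // P p.1 ∧ Q p.2 ∧ K.el z ∈ Subgroup.zpowers (p.1 * p.2)}
      = (pairList lu lw z).length := by
  classical
  have hmem : ∀ q ∈ pairList lu lw z, q.1 ∈ lu ∧ q.2 ∈ lw ∧
      K.el z ∈ Subgroup.zpowers (K.el q.1 * K.el q.2) := by
    intro q hq
    obtain ⟨h1, h2⟩ := List.mem_filter.1 hq
    obtain ⟨hq1, hq2⟩ := List.pair_mem_product.1 h1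
    refine ⟨hq1, hq2, ?_⟩
    rw [← K.mul _ (hlu _ hq1) _ (hlw _ hq2)]
    exact (K.inPow_iff (K.closed _ (hlu _ hq1) _ (hlw _ hq2)) hz).1 h2
  let f : Fin (pairList lu lw z).length →
      {p : G × G // P p.1 ∧ Q p.2 ∧ K.el z ∈ Subgroup.zpowers (p.1 * p.2)} := fun i =>
    ⟨(K.el (pairList lu lw z)[i].1, K.el (pairList lu lw z)[i].2),
      hP _ (hmem _ (List.getElem_mem i.2)).1, hQ _ (hmem _ (List.getElem_mem i.2)).2.1,
      (hmem _ (List.getElem_mem i.2)).2.2⟩
  have hf : Function.Bijective f := by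
    constructor
    · intro i j h
      obtain ⟨h1, h2⟩ := Prod.ext_iff.1 (congrArg Subtype.val h)
      have e1 := K.inj _ (hlu _ (hmem _ (List.getElem_mem i.2)).1) _
        (hlu _ (hmem _ (List.getElem_mem j.2)).1) h1
      have e2 := K.inj _ (hlw _ (hmem _ (List.getElem_mem i.2)).2.1) _
        (hlw _ (hmem _ (List.getElem_mem j.2)).2.1) h2
      exact Fin.ext ((List.Nodup.getElem_inj_iff ((hu.product hw).filter _)).1 (Prod.ext e1 e2))
    · rintro ⟨⟨u, w⟩, hPu, hQw, hz'⟩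
      obtain ⟨⟨c, hc, rfl⟩, ⟨d, hd, rfl⟩⟩ := hPQ u w hPu hQw hz'
      have hin : (c, d) ∈ pairList lu lw z := List.mem_filter.2 ⟨List.pair_mem_product.2 ⟨hc, hd⟩, by
        rw [K.inPow_iff (K.closed _ (hlu _ hc) _ (hlw _ hd)) hz, K.mul _ (hlu _ hc) _ (hlw _ hd)]
        exact hz'⟩
      obtain ⟨i, hi, he⟩ := List.getElem_of_mem hin
      refine ⟨⟨i, hi⟩, Subtype.ext ?_⟩
      show (K.el (pairList lu lw z)[i].1, K.el (pairList lu lw z)[i].2) = (K.el c, K.el d)
      rw [he]
  rw [← Nat.card_eq_of_bijective f hf, Nat.card_fin]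

end Coded

/-- The model of the centraliser of an involution outside the class of `t`. -/
abbrev Model (n : ℕ) := Multiplicative (ZMod 2) × Equiv.Perm (Fin n)

/-- The images of the conjugates of `t`. -/
def ModelT {n : ℕ} (x : Model n) : Prop :=
  x * x = 1 ∧ x.1 = 1 ∧ x.2 ≠ 1 ∧ Equiv.Perm.sign x.2 = 1

/-- The images of the other involutions. -/
def ModelB {n : ℕ} (x : Model n) : Prop :=
  x * x = 1 ∧ x ≠ 1 ∧ ¬ (x.1 = 1 ∧ x.2 ≠ 1 ∧ Equiv.Perm.sign x.2 = 1)

instance {n : ℕ} : DecidablePred (@ModelT n) := fun x => by unfold ModelT; infer_instance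

instance {n : ℕ} : DecidablePred (@ModelB n) := fun x => by unfold ModelB; infer_instance

/-- The central involution of the model. -/
def modelC (n : ℕ) : Model n := (Multiplicative.ofAdd 1, 1)

/-- The pairs in the model. -/
def modelPairs (n : ℕ) : Finset (Model n × Model n) :=
  (((Finset.univ : Finset (Model n)).filter ModelT) ×ˢ ((Finset.univ : Finset (Model n)).filter ModelB)).filter
    fun p => ∃ k ∈ Finset.range 12, (p.1 * p.2) ^ k = modelC n

theorem card_modelPairs_four : (modelPairs 4).card = 3 := by decide +kernel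

theorem card_modelPairs_five : (modelPairs 5).card = 195 := by decide +kernel

theorem perm_four_facts : (∀ σ τ : Equiv.Perm (Fin 4), σ * σ = 1 → τ * τ = 1 → σ ≠ 1 → τ ≠ 1 →
    Equiv.Perm.sign σ = Equiv.Perm.sign τ → ∃ g, g * σ * g⁻¹ = τ) ∧
    ∀ σ : Equiv.Perm (Fin 4), σ ^ 12 = 1 := by
  decide +kernel

theorem perm_five_pow : ∀ σ : Equiv.Perm (Fin 5), σ ^ 60 = 1 := by decide +kernel

end CfsgLib.MTwelveCent
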