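import Cfsg.Agent.MTwelveCent.Fusion
import Cfsg.Agent.MTwelveCent.Pairs
import Cfsg.Agent.Inv54.DihedralEight
import Mathlib.GroupTheory.Transfer

/-!
The centraliser of an involution outside the class of `t`: its order, with the number of pairs of
involutions from the two classes having it as a power of their product.
-/

set_option autoImplicit false

namespace CfsgLib.MTwelveCent

open Cfsg CfsgLib.FusionSimple.MathieuTab

/-- A dihedral group of order 8 in the common centraliser, as tables. -/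
def dt : DihedralGroup 4 → ℕ
  | .r i => powT rT i.val
  | .sr i => mulT sT (powT rT i.val)

/-- The common centraliser of `zT` and `bT` as a direct product. -/
def wt (x : Multiplicative (ZMod 2) × DihedralGroup 4) : ℕ :=
  if x.1 = 1 then dt x.2 else mulT (dt x.2) bT

theorem wt_mul : ∀ x y, mulT (wt x) (wt y) = wt (x * y) := by decide +kernel

theorem wt_mem : ∀ x, wt x ∈ centList bT := by decide +kernel

theorem wt_inj : ∀ x y, wt x = wt y → x = y := by decide +kernel

theorem wt_surj : ∀ c ∈ centList bT, ∃ x, wt x = c := by decide +kernel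

theorem wt_values : wt 1 = idT ∧ wt (Multiplicative.ofAdd 1, 1) = bT ∧
    wt (1, .r 2) = zT ∧ wt (1, .r 1) = rT ∧ wt (1, .sr 0) = sT := by decide +kernel

theorem bside_checks : (clB.contains sT && clB.contains (mulT sT bT) && !(sT == bT) &&
    clB.contains (mulT zT bT) &&
    (centList bT).all (fun c => !(mulT c c == idT) || c == idT || c == zT || clA.contains c ||
      clB.contains c) &&
    (centList bT).any (fun a => clA.contains a && clA.contains (mulT a zT) &&
      (centList bT).contains (mulT a zT) && clB.contains (mulT a bT) &&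
      clB.contains (mulT (mulT a zT) bT))) = true := by
  decide +kernel

/-- The conjugates of `t` in the common centraliser. -/
def wListT : List ℕ := (centList bT).filter fun c => c == zT || clA.contains c

/-- The other involutions of the common centraliser. -/
def wListB : List ℕ := (centList bT).filter fun c => clB.contains c

theorem card_wPairs : (pairList wListT wListB bT).length = 3 := by decide +kernel

theorem bT_mem_cent : bT ∈ centList bT := by decide +kernel

theorem centList_bT_length : (centList bT).length = 16 := by decide +kernel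

theorem perm_five_conj : ∀ σ τ : Equiv.Perm (Fin 5), σ * σ = 1 → τ * τ = 1 → σ ≠ 1 → τ ≠ 1 →
    Equiv.Perm.sign σ = Equiv.Perm.sign τ → ∃ g, g * σ * g⁻¹ = τ := by decide +kernel

theorem perm_four_exp (σ : Equiv.Perm (Fin 4)) : σ ^ 12 = 1 ∨ σ ^ 10 = 1 :=
  Or.inl (perm_four_facts.2 σ)

theorem perm_five_exp : ∀ σ : Equiv.Perm (Fin 5), σ ^ 12 = 1 ∨ σ ^ 10 = 1 := by decide +kernel

theorem ofAdd_two : ∀ a : Multiplicative (ZMod 2), a ^ 12 = 1 ∧ a ^ 10 = 1 ∧ a * a = 1 := by
  decide +kernel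

universe u

namespace Coded

variable {G : Type u} [Group G] [Finite G] {t : G} (K : Coded t)

theorem mem_centList_sub {c : ℕ} (hc : c ∈ centList bT) : c ∈ cList := (List.mem_filter.1 hc).1

/-- The centraliser of the second involution. -/
abbrev CB : Subgroup G := Subgroup.centralizer ({K.el bT} : Set G)

omit [Finite G] in
theorem el_mem_CB {c : ℕ} (hc : c ∈ centList bT) : K.el c ∈ K.CB :=
  Subgroup.mem_centralizer_singleton_iff.2 ((K.mem_cent_iff mem_bT _).2 ⟨c, hc, rfl⟩).2

/-- The common centraliser as a homomorphism. -/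
noncomputable def wHom : Multiplicative (ZMod 2) × DihedralGroup 4 →* K.CB where
  toFun x := ⟨K.el (wt x), K.el_mem_CB (wt_mem x)⟩
  map_one' := Subtype.ext ((congrArg K.el wt_values.1).trans K.el_id)
  map_mul' x y := Subtype.ext ((congrArg K.el (wt_mul x y).symm).trans
    (K.mul _ (mem_centList_sub (wt_mem x)) _ (mem_centList_sub (wt_mem y))))

theorem wHom_injective : Function.Injective K.wHom := fun x y h =>
  wt_inj x y (K.inj _ (mem_centList_sub (wt_mem x)) _ (mem_centList_sub (wt_mem y))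
    (congrArg Subtype.val h))

/-- The second involution, in its centraliser. -/
noncomputable def bB : K.CB := K.wHom (Multiplicative.ofAdd 1, 1)

/-- The first involution, in the centraliser of the second. -/
noncomputable def tB : K.CB := K.wHom (1, .r 2)

/-- An involution inverting an element of order 4 of the common centraliser. -/
noncomputable def sB : K.CB := K.wHom (1, .sr 0)

theorem val_bB : (K.bB : G) = K.el bT := by
  show K.el (wt _) = _; rw [wt_values.2.1]

theorem val_tB : (K.tB : G) = t := by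
  show K.el (wt _) = _; rw [wt_values.2.2.1, K.el_z]

theorem val_sB : (K.sB : G) = K.el sT := by
  show K.el (wt _) = _; rw [wt_values.2.2.2.2]

theorem range_wHom (x : K.CB) (hx : x * K.tB = K.tB * x) : ∃ y, K.wHom y = x := by
  have h1 := congrArg Subtype.val hx
  simp only [Subgroup.coe_mul, K.val_tB] at h1
  obtain ⟨c, hc, hce⟩ := (K.mem_cent_iff mem_bT (x : G)).1
    ⟨h1, Subgroup.mem_centralizer_singleton_iff.1 x.2⟩
  obtain ⟨y, rfl⟩ := wt_surj c hc
  exact ⟨y, Subtype.ext hce⟩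

theorem bB_commute (x : K.CB) : x * K.bB = K.bB * x := Subtype.ext (by
  simp only [Subgroup.coe_mul, K.val_bB]; exact Subgroup.mem_centralizer_singleton_iff.1 x.2)

theorem bB_sq : K.bB * K.bB = 1 := by
  rw [bB, ← map_mul, Prod.mk_mul_mk, (ofAdd_two _).2.2, one_mul, ← Prod.one_eq_mk, map_one]

theorem bB_ne : K.bB ≠ 1 := fun h => by
  have := K.wHom_injective (h.trans (map_one K.wHom).symm)
  exact absurd (congrArg Prod.fst this) (by decide)

/-- The subgroup of order 2. -/
noncomputable abbrev ZB : Subgroup K.CB := Subgroup.zpowers K.bB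

instance : (K.ZB).Normal := ⟨fun z hz g => by
  obtain ⟨i, rfl⟩ := hz
  have h : Commute g (K.bB ^ i) := Commute.zpow_right (K.bB_commute g) i
  rw [h.eq, mul_inv_cancel_right]
  exact ⟨i, rfl⟩⟩

theorem mem_ZB {x : K.CB} : x ∈ K.ZB ↔ x = 1 ∨ x = K.bB := by
  constructor
  · intro h
    obtain ⟨k, hk, rfl⟩ := (mem_zpowers_iff_lt (N := 2) two_pos (by
      rw [pow_two]; exact K.bB_sq)).1 h
    interval_cases k
    · exact Or.inl (pow_zero _)
    · exact Or.inr (pow_one _)
  · rintro (rfl | rfl)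
    exacts [one_mem _, Subgroup.mem_zpowers _]

/-- The quotient map. -/
noncomputable abbrev πB : K.CB →* K.CB ⧸ K.ZB := QuotientGroup.mk' K.ZB

theorem πB_eq {x y : K.CB} : K.πB x = K.πB y ↔ y = x ∨ y = x * K.bB := by
  rw [QuotientGroup.mk'_apply, QuotientGroup.mk'_apply, QuotientGroup.eq, K.mem_ZB,
    inv_mul_eq_one, inv_mul_eq_iff_eq_mul, eq_comm (a := x)]

theorem πB_bB : K.πB K.bB = 1 := (QuotientGroup.eq_one_iff _).2 (Subgroup.mem_zpowers _)

/-- Commuting images. -/
theorem lift_fix {c v : K.CB} (h : K.πB c * K.πB v = K.πB v * K.πB c) :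
    c * v * c⁻¹ = v ∨ c * v * c⁻¹ = v * K.bB := by
  refine K.πB_eq.1 ?_
  rw [map_mul, map_mul, map_inv, h, mul_inv_cancel_right]

theorem commute_of_lift {c v : K.CB} (h : K.πB c * K.πB v = K.πB v * K.πB c)
    (hv : IsConj t (v : G)) (hvb : ¬ IsConj t ((v * K.bB : K.CB) : G)) : c * v = v * c := by
  rcases K.lift_fix h with e | e
  · exact mul_inv_eq_iff_eq_mul.1 e
  · refine absurd (hv.trans (isConj_iff.2 ⟨(c : G), ?_⟩)) hvb
    rw [← e]; rfl

theorem orderOf_πB {v : K.CB} (h2 : v * v = 1) (h1 : v ≠ 1) (hb : v ≠ K.bB) :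
    orderOf (K.πB v) = 2 := by
  refine orderOf_eq_prime ?_ fun e => ?_
  · rw [pow_two, ← map_mul, h2, map_one]
  · rcases K.mem_ZB.1 ((QuotientGroup.eq_one_iff v).1 e) with h | h
    exacts [h1 h, hb h]

theorem tB_ne : K.tB ≠ 1 ∧ K.tB ≠ K.bB ∧ K.tB * K.tB = 1 := by
  refine ⟨fun h => ?_, fun h => ?_, ?_⟩
  · exact absurd (congrArg Prod.snd (K.wHom_injective (h.trans (map_one K.wHom).symm))) (by decide)
  · exact absurd (congrArg Prod.snd (K.wHom_injective h)) (by decide)
  · rw [tB, ← map_mul, show ((1, .r 2) * (1, .r 2) : Multiplicative (ZMod 2) × DihedralGroup 4) = 1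
      by decide, map_one]

theorem sB_ne : K.sB ≠ 1 ∧ K.sB ≠ K.bB ∧ K.sB * K.sB = 1 := by
  refine ⟨fun h => ?_, fun h => ?_, ?_⟩
  · exact absurd (congrArg Prod.snd (K.wHom_injective (h.trans (map_one K.wHom).symm))) (by decide)
  · exact absurd (congrArg Prod.snd (K.wHom_injective h)) (by decide)
  · rw [sB, ← map_mul, show ((1, .sr 0) * (1, .sr 0) : Multiplicative (ZMod 2) × DihedralGroup 4) = 1
      by decide, map_one]

theorem card_ZB : Nat.card K.ZB = 2 := by
  rw [Nat.card_zpowers]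
  exact CfsgLib.Small.orderOf_eq_two_iff_sq.2 ⟨K.bB_ne, K.bB_sq⟩

theorem card_CB : Nat.card K.CB = 2 * Nat.card (K.CB ⧸ K.ZB) := by
  rw [K.ZB.card_eq_card_quotient_mul_card_subgroup, K.card_ZB, mul_comm]

variable [IsSimpleGroup G]

theorem not_isConj_el_bT : ¬ IsConj t (K.el bT) := K.classes.2.1 _ ⟨bT, bT_mem_clB, rfl⟩

theorem tb_not : ¬ IsConj t ((K.tB * K.bB : K.CB) : G) := by
  rw [Subgroup.coe_mul, K.val_tB, K.val_bB]
  have h := bside_checks
  simp only [Bool.and_eq_true, List.contains_iff_mem] at h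
  exact K.classes.2.1 _ ⟨mulT zT bT, h.1.1.2, by rw [K.mul zT mem_zT bT mem_bT, K.el_z]⟩

theorem s_not : ¬ IsConj t (K.sB : G) ∧ ¬ IsConj t ((K.sB * K.bB : K.CB) : G) := by
  have h := bside_checks
  simp only [Bool.and_eq_true, List.contains_iff_mem] at h
  refine ⟨?_, ?_⟩
  · rw [K.val_sB]; exact K.classes.2.1 _ ⟨sT, h.1.1.1.1.1, rfl⟩
  · rw [Subgroup.coe_mul, K.val_sB, K.val_bB]
    exact K.classes.2.1 _ ⟨mulT sT bT, h.1.1.1.1.2,
      by rw [K.mul sT (clB_sub h.1.1.1.1.1) bT mem_bT]⟩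

/-- The centraliser of the image of `t` is dihedral. -/
theorem nonempty_cent_equiv : Nonempty
    (↥(Subgroup.centralizer ({K.πB K.tB} : Set (K.CB ⧸ K.ZB))) ≃* DihedralGroup 4) := by
  let φ : DihedralGroup 4 →* K.CB ⧸ K.ZB :=
    (K.πB.comp K.wHom).comp (MonoidHom.inr _ _)
  have hφ : Function.Injective φ := by
    intro a b h
    rcases K.πB_eq.1 h with e | e
    · exact (congrArg Prod.snd (K.wHom_injective e)).symm
    · rw [bB, ← map_mul] at e
      have h' := congrArg Prod.fst (K.wHom_injective e)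
      simp only [MonoidHom.inr_apply, Prod.fst_mul, one_mul] at h'
      exact absurd h' (by decide)
  have hr : φ.range = Subgroup.centralizer ({K.πB K.tB} : Set (K.CB ⧸ K.ZB)) := by
    ext q
    rw [Subgroup.mem_centralizer_singleton_iff]
    constructor
    · rintro ⟨a, rfl⟩
      show K.πB (K.wHom (1, a)) * K.πB K.tB = K.πB K.tB * K.πB (K.wHom (1, a))
      rw [← map_mul, ← map_mul, tB, ← map_mul, ← map_mul]
      congr 2
      refine Prod.ext rfl ?_
      exact (show ∀ a : DihedralGroup 4, a * .r 2 = .r 2 * a by decide) a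
    · intro hq
      obtain ⟨c, rfl⟩ := QuotientGroup.mk'_surjective K.ZB q
      obtain ⟨⟨i, a⟩, hy⟩ := K.range_wHom c (K.commute_of_lift hq
        (by rw [K.val_tB]) K.tb_not)
      refine ⟨a, K.πB_eq.2 ?_⟩
      rw [← hy]
      rcases (show ∀ i : Multiplicative (ZMod 2), i = 1 ∨ i = Multiplicative.ofAdd 1 by decide) i
        with rfl | rfl
      · exact Or.inl rfl
      · refine Or.inr ?_
        show _ = K.wHom (1, a) * K.bB
        rw [bB, ← map_mul]
        simp
  exact ⟨((MonoidHom.ofInjective hφ).trans (MulEquiv.subgroupCongr hr)).symm⟩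

theorem not_conj_s : ¬ IsConj (K.πB K.tB) (K.πB K.sB) := by
  intro h
  obtain ⟨q, hq⟩ := isConj_iff.1 h
  obtain ⟨c, rfl⟩ := QuotientGroup.mk'_surjective K.ZB q
  have he : K.πB (c * K.tB * c⁻¹) = K.πB K.sB := by rw [map_mul, map_mul, map_inv]; exact hq
  have ht : IsConj t ((c * K.tB * c⁻¹ : K.CB) : G) := isConj_iff.2 ⟨(c : G), by
    simp [Subgroup.coe_mul, K.val_tB]⟩
  rcases K.πB_eq.1 he.symm with e | e <;> rw [e] at ht
  exacts [K.s_not.1 ht, K.s_not.2 ht]

/-- An element of odd order whose image commutes with that of a suitable involution. -/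
theorem odd_fix {v : K.CB} (hv : IsConj t (v : G)) (hvb : ¬ IsConj t ((v * K.bB : K.CB) : G))
    {q : K.CB ⧸ K.ZB} (hodd : Odd (orderOf q)) (h : K.πB v * q = q * K.πB v) : q = 1 := by
  obtain ⟨c, rfl⟩ := QuotientGroup.mk'_surjective K.ZB q
  have hcv := congrArg Subtype.val (K.commute_of_lift h.symm hv hvb)
  simp only [Subgroup.coe_mul] at hcv
  obtain ⟨g, hg⟩ := isConj_iff.1 hv.symm
  set b' := g * K.el bT * g⁻¹
  have hb't : b' * t = t * b' := by
    have h' : b' * (g * v * g⁻¹) = g * v * g⁻¹ * b' := by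
      rw [conj_mul, conj_mul, Subgroup.mem_centralizer_singleton_iff.1 v.2]
    rwa [hg] at h'
  have hb'2 : orderOf b' = 2 := by
    rw [CfsgLib.Small.orderOf_conj_eq, K.el_order_two (by simp [bT_mem_clB])]
  have hb'n : ¬ IsConj t b' := fun e => K.not_isConj_el_bT (e.trans (isConj_iff.2 ⟨g, rfl⟩).symm)
  have hmemT : ∀ (l : List ℕ) (x : G), x ∈ K.img l → ∀ n, Nat.card {h : G // h * t = t * h ∧ h * x = x * h} = n →
      ∀ y : G, y * t = t * y → y * x = x * y → y ^ n = 1 := by
    intro l x _ n hn y h1 h2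
    set H := Subgroup.centralizer ({t} : Set G) ⊓ Subgroup.centralizer ({x} : Set G)
    have hH : Nat.card H = n := by
      rw [← hn]
      exact Nat.card_congr (Equiv.subtypeEquivRight fun y => by
        rw [Subgroup.mem_inf, Subgroup.mem_centralizer_singleton_iff,
          Subgroup.mem_centralizer_singleton_iff])
    have hy : y ∈ H := ⟨Subgroup.mem_centralizer_singleton_iff.2 h1,
      Subgroup.mem_centralizer_singleton_iff.2 h2⟩
    have := congrArg Subtype.val (pow_card_eq_one' (x := (⟨y, hy⟩ : H)))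
    rw [hH] at this
    exact this
  have hy1 : g * (c : G) * g⁻¹ * t = t * (g * c * g⁻¹) := by
    have h' : g * (c : G) * g⁻¹ * (g * v * g⁻¹) = g * v * g⁻¹ * (g * c * g⁻¹) := by
      rw [conj_mul, conj_mul, hcv]
    rwa [hg] at h'
  have hy2 : g * (c : G) * g⁻¹ * b' = b' * (g * c * g⁻¹) := by
    rw [conj_mul, conj_mul, Subgroup.mem_centralizer_singleton_iff.1 c.2]
  have h16 : (g * (c : G) * g⁻¹) ^ 16 = 1 := by
    rcases K.invol_cases hb't hb'2 with e | e | e | e
    · exact absurd (e ▸ IsConj.refl t) hb'n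
    · exact absurd (K.classes.1 _ e) hb'n
    · exact hmemT clB b' e 16 (K.card_cent_B e) _ hy1 hy2
    · rw [show 16 = 8 * 2 from rfl, pow_mul, hmemT clE b' e 8 (K.card_cent_E e) _ hy1 hy2, one_pow]
  rw [conj_pow, conj_eq_one_iff] at h16
  have h16' : c ^ 16 = 1 := Subtype.ext (by rw [Subgroup.coe_pow]; exact h16)
  have hq16 : K.πB c ^ 16 = 1 := by rw [← map_pow, h16', map_one]
  have hd : orderOf (K.πB c) ∣ 2 ^ 4 := orderOf_dvd_of_pow_eq_one hq16
  exact orderOf_eq_one_iff.1 (Nat.dvd_one.1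
    ((Nat.coprime_two_right.2 hodd).pow_right 4 |>.dvd_of_dvd_mul_right (by simpa using hd)))

/-- The pairs counted by the order formula at the second involution. -/
noncomputable abbrev pairsB : ℕ := Nat.card {p : G × G // IsConj t p.1 ∧ IsConj (K.el bT) p.2 ∧
    K.el bT ∈ Subgroup.zpowers (p.1 * p.2)}

theorem pair_mem_CB {u w : G} (hu : IsConj t u) (hw : IsConj (K.el bT) w)
    (h : K.el bT ∈ Subgroup.zpowers (u * w)) :
    u ∈ K.CB ∧ w ∈ K.CB ∧ orderOf u = 2 ∧ orderOf w = 2 := by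
  have hb2 := K.el_order_two (c := bT) (by simp [bT_mem_clB])
  have hu2 : orderOf u = 2 := by
    obtain ⟨g, rfl⟩ := isConj_iff.1 hu
    rw [CfsgLib.Small.orderOf_conj_eq, K.orderOf_t]
  have hw2 : orderOf w = 2 := by
    obtain ⟨g, rfl⟩ := isConj_iff.1 hw
    rw [CfsgLib.Small.orderOf_conj_eq, hb2]
  obtain ⟨h1, h2⟩ := commute_of_mem_zpowers (CfsgLib.Small.mul_self_of_orderOf_two hu2)
    (CfsgLib.Small.mul_self_of_orderOf_two hw2) (CfsgLib.Small.mul_self_of_orderOf_two hb2) h
  exact ⟨Subgroup.mem_centralizer_singleton_iff.2 h1, Subgroup.mem_centralizer_singleton_iff.2 h2,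
    hu2, hw2⟩

theorem case_small (h8 : Nat.card (K.CB ⧸ K.ZB) = 8) : Nat.card K.CB = 16 ∧ K.pairsB = 3 := by
  have hc : Nat.card K.CB = 16 := by rw [K.card_CB, h8]
  refine ⟨hc, ?_⟩
  obtain ⟨hA, hB, -, -⟩ := K.classes
  -- the centraliser is the common one
  have hall : ∀ g ∈ K.CB, ∃ c ∈ centList bT, K.el c = g := by
    intro g hg
    have hb := K.wHom_injective.bijective_of_nat_card_le (by
      rw [hc, Nat.card_prod, DihedralGroup.nat_card]; simp)
    obtain ⟨x, hx⟩ := hb.2 ⟨g, hg⟩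
    exact ⟨wt x, wt_mem x, congrArg Subtype.val hx⟩
  have hchk := bside_checks
  simp only [Bool.and_eq_true, List.all_eq_true] at hchk
  have hchk5 := hchk.1.2
  have hcases : ∀ g ∈ K.CB, orderOf g = 2 → g = t ∨ g ∈ K.img clA ∨ g ∈ K.img wListB := by
    intro g hg h2
    obtain ⟨c, hc, rfl⟩ := hall g hg
    have h := hchk5 c hc
    simp only [Bool.or_eq_true, Bool.not_eq_true', beq_eq_false_iff_ne, beq_iff_eq,
      List.contains_iff_mem] at h
    have hcc := mem_centList_sub hc
    rcases h with (((h | h) | h) | h) | h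
    · refine absurd (K.inj _ (K.closed c hcc c hcc) idT mem_idT ?_) h
      rw [K.mul c hcc c hcc, K.el_id, CfsgLib.Small.mul_self_of_orderOf_two h2]
    · exact absurd (by rw [h, K.el_id]) (CfsgLib.Small.ne_one_of_orderOf_two h2)
    · exact Or.inl (h ▸ K.el_z)
    · exact Or.inr (Or.inl ⟨c, h, rfl⟩)
    · exact Or.inr (Or.inr ⟨c, List.mem_filter.2 ⟨hc, List.contains_iff_mem.2 h⟩, rfl⟩)
  have hlu : ∀ c ∈ wListT, c ∈ cList := fun c h => mem_centList_sub (List.mem_filter.1 h).1
  have hlw : ∀ c ∈ wListB, c ∈ cList := fun c h => mem_centList_sub (List.mem_filter.1 h).1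
  have hnd : (centList bT).Nodup := cList_nd.filter _
  rw [pairsB, K.card_pairs hlu hlw (hnd.filter _) (hnd.filter _) mem_bT (IsConj t) (IsConj (K.el bT))
    ?_ ?_ ?_, card_wPairs]
  · intro u w hu hw h
    obtain ⟨huB, hwB, hu2, hw2⟩ := K.pair_mem_CB hu hw h
    have hbw : ¬ IsConj t w := fun e => K.not_isConj_el_bT (e.trans hw.symm)
    constructor
    · obtain ⟨c, hc, hce⟩ := hall u huB
      rcases hcases u huB hu2 with e | ⟨d, hd, hde⟩ | ⟨d, hd, hde⟩
      · exact ⟨c, List.mem_filter.2 ⟨hc, by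
          simp [K.inj c (mem_centList_sub hc) zT mem_zT (by rw [hce, K.el_z, e])]⟩, hce⟩
      · exact ⟨c, List.mem_filter.2 ⟨hc, by
          simp [K.inj c (mem_centList_sub hc) d (clA_sub hd) (by rw [hce, hde]), hd]⟩, hce⟩
      · exact absurd hu (hB u ⟨d, List.contains_iff_mem.1 (List.mem_filter.1 hd).2, hde⟩)
    · rcases hcases w hwB hw2 with e | e | e
      exacts [absurd (e ▸ IsConj.refl t) hbw, absurd (hA w e) hbw, e]
  · intro c hc
    have h := (List.mem_filter.1 hc).2
    simp only [Bool.or_eq_true, beq_iff_eq, List.contains_iff_mem] at h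
    rcases h with h | h
    · rw [h, K.el_z]
    · exact hA _ ⟨c, h, rfl⟩
  · intro c hc
    exact K.isConj_of_mem (Or.inr (Or.inl rfl)) ⟨bT, bT_mem_clB, rfl⟩
      ⟨c, List.contains_iff_mem.1 (List.mem_filter.1 hc).2, rfl⟩

theorem case_perm {n : ℕ} (f : K.CB ⧸ K.ZB ≃* Equiv.Perm (Fin n)) (hn : Odd (n.factorial / 8))
    (hn8 : n.factorial / 8 * 8 = n.factorial)
    (hconj : ∀ σ τ : Equiv.Perm (Fin n), σ * σ = 1 → τ * τ = 1 → σ ≠ 1 → τ ≠ 1 →
      Equiv.Perm.sign σ = Equiv.Perm.sign τ → ∃ g, g * σ * g⁻¹ = τ)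
    (hexp : ∀ σ : Equiv.Perm (Fin n), σ ^ 12 = 1 ∨ σ ^ 10 = 1) :
    Nat.card K.CB = 2 * n.factorial ∧ K.pairsB = (modelPairs n).card := by
  classical
  have hcardB : Nat.card K.CB = 2 * n.factorial := by
    rw [K.card_CB, Nat.card_congr f.toEquiv, Nat.card_perm, Nat.card_fin]
  refine ⟨hcardB, ?_⟩
  -- a projection onto the group of order 2
  let θ := MonoidHom.ofInjective K.wHom_injective
  let χ : K.wHom.range →* Multiplicative (ZMod 2) := (MonoidHom.fst _ _).comp θ.symm.toMonoidHom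
  have hidx : K.wHom.range.index = n.factorial / 8 := by
    have h := K.wHom.range.card_mul_index
    rw [← Nat.card_congr θ.toEquiv, Nat.card_prod, DihedralGroup.nat_card, hcardB] at h
    simp at h
    omega
  haveI : K.wHom.range.FiniteIndex := ⟨by rw [hidx]; exact hn.pos.ne'⟩
  let ψ := MonoidHom.transfer χ
  have hψb : ψ K.bB = Multiplicative.ofAdd 1 := by
    have key : ∀ (k : ℕ) (g₀ : K.CB), g₀⁻¹ * K.bB ^ k * g₀ ∈ K.wHom.range →
        g₀⁻¹ * K.bB ^ k * g₀ = K.bB ^ k := fun k g₀ _ => by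
      rw [mul_assoc, ((Commute.pow_right (K.bB_commute g₀) k)).eq.symm, inv_mul_cancel_left]
    have hpow : K.bB ^ K.wHom.range.index = K.bB := by
      obtain ⟨m, hm⟩ := hidx ▸ hn
      rw [hm, pow_succ, pow_mul, pow_two, K.bB_sq, one_pow, one_mul]
    show MonoidHom.transfer χ K.bB = _
    rw [MonoidHom.transfer_eq_pow χ K.bB key]
    have : θ.symm ⟨K.bB ^ K.wHom.range.index, MonoidHom.transfer_eq_pow_aux K.bB key⟩
        = (Multiplicative.ofAdd 1, 1) := by
      rw [θ.symm_apply_eq]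
      exact Subtype.ext hpow
    simp only [χ, MonoidHom.comp_apply, MulEquiv.coe_toMonoidHom, this]
    rfl
  have hψt : ψ K.tB = 1 := by
    rw [tB, show ((1, .r 2) : Multiplicative (ZMod 2) × DihedralGroup 4) = (1, .r 1) * (1, .r 1) by
      decide, map_mul, map_mul, (ofAdd_two _).2.2]
  let E : K.CB →* Model n := ψ.prod (f.toMonoidHom.comp K.πB)
  have hE2 : ∀ x, (E x).2 = f (K.πB x) := fun x => rfl
  have hEinj : Function.Injective E := by
    refine (injective_iff_map_eq_one E).2 fun x hx => ?_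
    have h2 : f (K.πB x) = 1 := congrArg Prod.snd hx
    rw [MulEquiv.map_eq_one_iff] at h2
    rcases K.mem_ZB.1 ((QuotientGroup.eq_one_iff x).1 h2) with h | h
    · exact h
    · have h1 : ψ x = 1 := congrArg Prod.fst hx
      rw [h, hψb] at h1
      exact absurd h1 (by decide)
  let e : K.CB ≃* Model n := MulEquiv.ofBijective E
    ((Nat.bijective_iff_injective_and_card E).2 ⟨hEinj, by
      rw [hcardB, Nat.card_prod, Nat.card_perm, Nat.card_fin]; simp⟩)
  have he : ∀ x, e x = E x := fun x => rfl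
  have heb : e K.bB = modelC n := by
    refine Prod.ext hψb ?_
    rw [he, hE2, K.πB_bB, map_one]
    rfl
  have hπt := K.orderOf_πB K.tB_ne.2.2 K.tB_ne.1 K.tB_ne.2.1
  have hπs := K.orderOf_πB K.sB_ne.2.2 K.sB_ne.1 K.sB_ne.2.1
  set τ := f (K.πB K.tB) with hτ
  set ρ := f (K.πB K.sB) with hρ
  have hτ1 : τ ≠ 1 := fun h => CfsgLib.Small.ne_one_of_orderOf_two hπt
    ((MulEquiv.map_eq_one_iff f).1 h)
  have hρ1 : ρ ≠ 1 := fun h => CfsgLib.Small.ne_one_of_orderOf_two hπs
    ((MulEquiv.map_eq_one_iff f).1 h)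
  have hτ2 : τ * τ = 1 := by rw [hτ, ← map_mul, CfsgLib.Small.mul_self_of_orderOf_two hπt, map_one]
  have hρ2 : ρ * ρ = 1 := by rw [hρ, ← map_mul, CfsgLib.Small.mul_self_of_orderOf_two hπs, map_one]
  have hτs : Equiv.Perm.sign τ = 1 := by
    rw [hτ, tB, show ((1, .r 2) : Multiplicative (ZMod 2) × DihedralGroup 4) = (1, .r 1) * (1, .r 1) by
      decide, map_mul, map_mul, map_mul, map_mul, Int.units_mul_self]
  have hρs : Equiv.Perm.sign ρ = -1 := by
    rcases Int.units_eq_one_or (Equiv.Perm.sign ρ) with h | h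
    · exfalso
      obtain ⟨g, hg⟩ := hconj τ ρ hτ2 hρ2 hτ1 hρ1 (hτs.trans h.symm)
      refine K.not_conj_s (isConj_iff.2 ⟨f.symm g, f.injective ?_⟩)
      rw [map_mul, map_mul, map_inv, MulEquiv.apply_symm_apply]
      exact hg
    · exact h
  have hu : ∀ x : K.CB, x * x = 1 → (IsConj t (x : G) ↔ ModelT (e x)) := by
    intro x hx
    have hx2 : e x * e x = 1 := by rw [← map_mul, hx, map_one]
    set σ := f (K.πB x) with hσ
    have hσ2 : σ * σ = 1 := congrArg Prod.snd hx2
    unfold ModelT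
    by_cases hσ1 : σ = 1
    · refine ⟨fun h => ?_, fun h => absurd hσ1 h.2.2.1⟩
      rw [MulEquiv.map_eq_one_iff] at hσ1
      rcases K.mem_ZB.1 ((QuotientGroup.eq_one_iff x).1 hσ1) with e' | e' <;> rw [e'] at h
      · exact absurd (isConj_one_left.1 h) (CfsgLib.Small.ne_one_of_orderOf_two K.orderOf_t)
      · exact absurd (K.val_bB ▸ h) K.not_isConj_el_bT
    -- `x` is conjugate to a standard involution or its product with the second involution
    have hstd : ∀ v : K.CB, Equiv.Perm.sign (f (K.πB v)) = Equiv.Perm.sign σ →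
        f (K.πB v) ≠ 1 → f (K.πB v) * f (K.πB v) = 1 →
        ∃ c : K.CB, x = c * v * c⁻¹ ∨ x = c * (v * K.bB) * c⁻¹ := by
      intro v hs h1 h2
      obtain ⟨g, hg⟩ := hconj _ σ h2 hσ2 h1 hσ1 hs
      obtain ⟨c, hc⟩ := QuotientGroup.mk'_surjective K.ZB (f.symm g)
      refine ⟨c, ?_⟩
      have h' : K.πB (c * v * c⁻¹) = K.πB x := f.injective (by
        rw [map_mul, map_mul, map_inv, map_mul, map_mul, map_inv,
          show K.πB c = f.symm g from hc, MulEquiv.apply_symm_apply]
        exact hg)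
      rcases K.πB_eq.1 h' with e' | e'
      · exact Or.inl e'
      · refine Or.inr (e'.trans ?_)
        rw [show c * (v * K.bB) * c⁻¹ = c * v * (K.bB * c⁻¹) by group, ← K.bB_commute c⁻¹]
        group
    have hcl : ∀ (c v : K.CB), IsConj t ((c * v * c⁻¹ : K.CB) : G) ↔ IsConj t (v : G) := fun c v =>
      ⟨fun h => h.trans (isConj_iff.2 ⟨(c : G)⁻¹, by simp [mul_assoc]⟩),
        fun h => h.trans (isConj_iff.2 ⟨(c : G), by simp⟩)⟩
    have hψc : ∀ c v : K.CB, ψ (c * v * c⁻¹) = ψ v := fun c v => by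
      rw [map_mul, map_mul, map_inv, mul_comm (ψ c), mul_inv_cancel_right]
    rcases Int.units_eq_one_or (Equiv.Perm.sign σ) with hs | hs
    · obtain ⟨c, e' | e'⟩ := hstd K.tB (hτs.trans hs.symm) hτ1 hτ2
      · refine iff_of_true ?_ ⟨hx2, ?_, hσ1, hs⟩
        · rw [e', hcl, K.val_tB]
        · show ψ x = 1
          rw [e', hψc, hψt]
      · refine iff_of_false ?_ fun h => ?_
        · rw [e', hcl]; exact K.tb_not
        · have h1 : ψ x = 1 := h.2.1
          rw [e', hψc, map_mul, hψt, one_mul, hψb] at h1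
          exact absurd h1 (by decide)
    · refine iff_of_false ?_ fun h => ?_
      · obtain ⟨c, e' | e'⟩ := hstd K.sB (hρs.trans hs.symm) hρ1 hρ2 <;> rw [e', hcl]
        exacts [K.s_not.1, K.s_not.2]
      · exact absurd (hs.symm.trans (show Equiv.Perm.sign σ = 1 from h.2.2.2)) (by decide)
  have hw : ∀ x : K.CB, x * x = 1 → (IsConj (K.el bT) (x : G) ↔ ModelB (e x)) := by
    intro x hx
    have hx2 : e x * e x = 1 := by rw [← map_mul, hx, map_one]
    have hb1 : K.el bT ≠ 1 := K.el_ne_one mem_bT (cls_sub (by simp [bT_mem_clB])).2.1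
    constructor
    · intro h
      refine ⟨hx2, fun h1 => ?_, fun h3 => ?_⟩
      · rw [MulEquiv.map_eq_one_iff] at h1
        rw [h1, Subgroup.coe_one, isConj_one_left] at h
        exact hb1 h
      · exact K.not_isConj_el_bT (((hu x hx).2 ⟨hx2, h3⟩).trans h.symm)
    · rintro ⟨-, h1, h2⟩
      have hx1 : (x : G) ≠ 1 := fun h => h1 (by
        rw [show x = 1 from Subtype.ext h, map_one])
      refine (K.classes.2.2.2 (x : G) (orderOf_eq_prime (by
        rw [pow_two, ← Subgroup.coe_mul, hx]; rfl) hx1)).resolve_left fun h => h2 ?_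
      exact ((hu x hx).1 h).2
  have hexpM : ∀ x : Model n, x ^ 12 = 1 ∨ x ^ 10 = 1 := fun x => by
    rcases hexp x.2 with h | h
    · exact Or.inl (Prod.ext (ofAdd_two x.1).1 h)
    · exact Or.inr (Prod.ext (ofAdd_two x.1).2.1 h)
  have hzmem : ∀ x : K.CB, K.el bT ∈ Subgroup.zpowers (x : G) ↔
      ∃ k ∈ Finset.range 12, e x ^ k = modelC n := by
    intro x
    constructor
    · rintro ⟨i, hi⟩
      have hi' : x ^ i = K.bB := Subtype.ext (by
        rw [Subgroup.coe_zpow, K.val_bB]; exact hi)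
      have h : modelC n ∈ Subgroup.zpowers (e x) := ⟨i, by
        show e x ^ i = modelC n
        rw [← map_zpow, hi', heb]⟩
      rcases hexpM (e x) with hN | hN
      · obtain ⟨k, hk, hke⟩ := (mem_zpowers_iff_lt (N := 12) (by norm_num) hN).1 h
        exact ⟨k, Finset.mem_range.2 hk, hke⟩
      · obtain ⟨k, hk, hke⟩ := (mem_zpowers_iff_lt (N := 10) (by norm_num) hN).1 h
        exact ⟨k, Finset.mem_range.2 (hk.trans (by norm_num)), hke⟩
    · rintro ⟨k, -, hk⟩
      rw [← map_pow, ← heb] at hk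
      rw [← K.val_bB, ← e.injective hk, Subgroup.coe_pow]
      exact Subgroup.npow_mem_zpowers _ _
  rw [pairsB, ← Nat.card_eq_finsetCard]
  refine Nat.card_congr
    { toFun := fun p =>
        ⟨(e ⟨p.1.1, (K.pair_mem_CB p.2.1 p.2.2.1 p.2.2.2).1⟩,
          e ⟨p.1.2, (K.pair_mem_CB p.2.1 p.2.2.1 p.2.2.2).2.1⟩), ?_⟩
      invFun := fun q => ⟨((e.symm q.1.1 : K.CB), (e.symm q.1.2 : K.CB)), ?_⟩
      left_inv := fun p => ?_
      right_inv := fun q => ?_ }
  · obtain ⟨h1, h2, h3, h4⟩ := K.pair_mem_CB p.2.1 p.2.2.1 p.2.2.2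
    simp only [modelPairs, Finset.mem_filter, Finset.mem_product, Finset.mem_univ, true_and]
    refine ⟨⟨(hu _ (Subtype.ext (CfsgLib.Small.mul_self_of_orderOf_two h3))).1 p.2.1,
      (hw _ (Subtype.ext (CfsgLib.Small.mul_self_of_orderOf_two h4))).1 p.2.2.1⟩, ?_⟩
    rw [← map_mul]
    exact (hzmem _).1 p.2.2.2
  · have hq := q.2
    simp only [modelPairs, Finset.mem_filter, Finset.mem_product, Finset.mem_univ, true_and] at hq
    obtain ⟨⟨h1, h2⟩, h3⟩ := hq
    have hq1 : e.symm q.1.1 * e.symm q.1.1 = 1 := by rw [← map_mul, h1.1, map_one]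
    have hq2 : e.symm q.1.2 * e.symm q.1.2 = 1 := by rw [← map_mul, h2.1, map_one]
    refine ⟨(hu _ hq1).2 (by rw [MulEquiv.apply_symm_apply]; exact h1),
      (hw _ hq2).2 (by rw [MulEquiv.apply_symm_apply]; exact h2), ?_⟩
    have := (hzmem (e.symm q.1.1 * e.symm q.1.2)).2 (by
      simpa only [map_mul, MulEquiv.apply_symm_apply] using h3)
    exact this
  · exact Subtype.ext (by simp)
  · exact Subtype.ext (by simp)

/-- The order of the centraliser of the second involution and the number of pairs. -/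
theorem centB : (Nat.card K.CB = 16 ∧ K.pairsB = 3) ∨ (Nat.card K.CB = 48 ∧ K.pairsB = 3) ∨
    (Nat.card K.CB = 240 ∧ K.pairsB = 195) := by
  classical
  have hπt := K.orderOf_πB K.tB_ne.2.2 K.tB_ne.1 K.tB_ne.2.1
  obtain ⟨r, s, h⟩ := CfsgLib.Inv54.DihedralEight.exists_gens _ hπt K.nonempty_cent_equiv
  have hperm : (∃ H : Subgroup (K.CB ⧸ K.ZB), H.index = 2 ∧
      (Nonempty (K.CB ⧸ K.ZB ≃* Equiv.Perm (Fin 4)) ∨ Nonempty (K.CB ⧸ K.ZB ≃* Equiv.Perm (Fin 5)))) →
      (Nat.card K.CB = 48 ∧ K.pairsB = 3) ∨ (Nat.card K.CB = 240 ∧ K.pairsB = 195) := by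
    rintro ⟨H, -, f | f⟩
    · obtain ⟨f⟩ := f
      obtain ⟨h1, h2⟩ := K.case_perm f (by decide) (by decide) perm_four_facts.1 perm_four_exp
      exact Or.inl ⟨h1, h2.trans card_modelPairs_four⟩
    · obtain ⟨f⟩ := f
      obtain ⟨h1, h2⟩ := K.case_perm f (by decide) (by decide) perm_five_conj perm_five_exp
      exact Or.inr ⟨h1, h2.trans card_modelPairs_five⟩
  by_cases h1 : IsConj (K.πB K.tB) s <;> by_cases h2 : IsConj (K.πB K.tB) (s * r)
  · refine absurd ?_ K.not_conj_s
    rcases h.exists_conj_five (K.orderOf_πB K.sB_ne.2.2 K.sB_ne.1 K.sB_ne.2.1) with e | e | e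
    exacts [e, h1.trans e, h2.trans e]
  · exact Or.inr (hperm (h.two_classes h1 h2))
  · refine Or.inr (hperm (h.swap.two_classes h2 fun e => h1 ?_))
    rw [mul_assoc, h.hr] at e
    exact e.trans h.conj_s.1.symm
  · -- the centraliser covers, and the odd core is trivial
    have hsup := CfsgLib.Inv54.DihedralEight.sup_oddCore h h1 h2
    set O := Cfsg.oddCore (K.CB ⧸ K.ZB)
    have hO : Odd (Nat.card O) := Nat.coprime_two_right.1 (CfsgLib.PLocal.coprime_card_pPrimeCore 2 _)
    have hchk := bside_checks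
    simp only [Bool.and_eq_true] at hchk
    obtain ⟨a, ha, ha'⟩ := List.any_eq_true.1 hchk.2
    simp only [Bool.and_eq_true, List.contains_iff_mem] at ha'
    obtain ⟨⟨⟨⟨haA, hazA⟩, hazm⟩, habB⟩, hazbB⟩ := ha'
    let aB : K.CB := ⟨K.el a, K.el_mem_CB ha⟩
    have hatv : ((aB * K.tB : K.CB) : G) = K.el (mulT a zT) := by
      rw [Subgroup.coe_mul, K.val_tB, K.mul a (clA_sub haA) zT mem_zT, K.el_z]
    have hfix : ∀ v : K.CB, IsConj t (v : G) → ¬ IsConj t ((v * K.bB : K.CB) : G) →
        ∀ q ∈ O, K.πB v * q = q * K.πB v → q = 1 := fun v hv hvb q hq hc =>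
      K.odd_fix hv hvb (hO.of_dvd_nat (O.orderOf_dvd_natCard hq)) hc
    have hbot : O = ⊥ := by
      refine CfsgLib.Inv54.DihedralEight.eq_bot_of_fpf O hO (a := K.πB aB) (b := K.πB K.tB) ?_ ?_ ?_
        (hfix aB (K.classes.1 _ ⟨a, haA, rfl⟩) ?_) (hfix K.tB (by rw [K.val_tB]) K.tb_not) ?_
      · rw [← map_mul, show aB * aB = 1 from Subtype.ext (CfsgLib.Small.mul_self_of_orderOf_two
          (K.el_order_two (by simp [haA]))), map_one]
      · exact CfsgLib.Small.mul_self_of_orderOf_two hπt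
      · rw [← map_mul, ← map_mul]
        refine congrArg _ (Subtype.ext ?_)
        simp only [Subgroup.coe_mul, K.val_tB]
        exact K.commute (clA_sub haA)
      · rw [Subgroup.coe_mul, K.val_bB]
        refine K.classes.2.1 _ ⟨mulT a bT, habB, ?_⟩
        rw [K.mul a (clA_sub haA) bT mem_bT]
      · intro q hq hc
        rw [← map_mul] at hc
        refine hfix (aB * K.tB) ?_ ?_ q hq hc
        · rw [hatv]; exact K.classes.1 _ ⟨_, hazA, rfl⟩
        · rw [Subgroup.coe_mul, hatv, K.val_bB]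
          refine K.classes.2.1 _ ⟨_, hazbB, ?_⟩
          rw [K.mul _ (clA_sub hazA) bT mem_bT]
    rw [hbot, sup_bot_eq] at hsup
    refine Or.inl (K.case_small ?_)
    have h8 := h.hcard
    rw [hsup, Subgroup.card_top] at h8
    exact h8

end Coded

end CfsgLib.MTwelveCent
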