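import Cfsg.Agent.MTwelveCent.Data
import Cfsg.Agent.FusionSimple.Mathieu.Tables
import Cfsg.Agent.Small.Counting

/-!
An involution whose centraliser is coded by the tables of `cList`, and subgroups given by closed
lists of tables.
-/

set_option autoImplicit false

namespace CfsgLib.MTwelveCent

open CfsgLib.FusionSimple.MathieuTab

variable {G : Type*} [Group G]

/-- The centraliser of `t` is a copy of the tabulated group. -/
structure Coded (t : G) where
  el : ℕ → G
  mem_iff : ∀ g : G, g * t = t * g ↔ ∃ c ∈ cList, el c = g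
  inj : ∀ a ∈ cList, ∀ b ∈ cList, el a = el b → a = b
  mul : ∀ a ∈ cList, ∀ b ∈ cList, el (mulT a b) = el a * el b
  closed : ∀ a ∈ cList, ∀ b ∈ cList, mulT a b ∈ cList
  el_id : el idT = 1
  el_z : el zT = t

/-- Products of two lists of tables stay in the second. -/
def closedOK (l : List ℕ) : Bool := l.all fun a => l.all fun b => l.contains (mulT a b)

theorem closedOK_mem {l : List ℕ} (h : closedOK l = true) {a b : ℕ} (ha : a ∈ l) (hb : b ∈ l) :
    mulT a b ∈ l :=
  List.contains_iff_mem.1 (List.all_eq_true.1 (List.all_eq_true.1 h a ha) b hb)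

namespace Coded

variable {t : G} (K : Coded t)

theorem commute {c : ℕ} (hc : c ∈ cList) : K.el c * t = t * K.el c :=
  (K.mem_iff _).2 ⟨c, hc, rfl⟩

theorem eq_iff {a b : ℕ} (ha : a ∈ cList) (hb : b ∈ cList) : K.el a = K.el b ↔ a = b :=
  ⟨K.inj a ha b hb, fun h => h ▸ rfl⟩

theorem mul_eq_mul_iff {a b c d : ℕ} (ha : a ∈ cList) (hb : b ∈ cList) (hc : c ∈ cList)
    (hd : d ∈ cList) : K.el a * K.el b = K.el c * K.el d ↔ mulT a b = mulT c d := by
  rw [← K.mul a ha b hb, ← K.mul c hc d hd, K.eq_iff (K.closed a ha b hb) (K.closed c hc d hd)]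

theorem conj_eq_iff {g a b : ℕ} (hg : g ∈ cList) (ha : a ∈ cList) (hb : b ∈ cList) :
    K.el g * K.el a * (K.el g)⁻¹ = K.el b ↔ mulT g a = mulT b g := by
  rw [mul_inv_eq_iff_eq_mul, K.mul_eq_mul_iff hg ha hb hg]

/-- Conjugate witnesses give conjugacy. -/
theorem isConj {a b : ℕ} (ha : a ∈ cList) (hb : b ∈ cList)
    (h : (cList.any fun g => mulT g a == mulT b g) = true) : IsConj (K.el a) (K.el b) := by
  obtain ⟨g, hg, hgab⟩ := List.any_eq_true.1 h
  exact isConj_iff.2 ⟨K.el g, (K.conj_eq_iff hg ha hb).2 (beq_iff_eq.1 hgab)⟩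

/-- The image of a list of tables. -/
def img (l : List ℕ) : Set G := {g | ∃ c ∈ l, K.el c = g}

variable [Finite G]

/-- The subgroup given by a closed list of tables. -/
def sub (l : List ℕ) (hsub : ∀ c ∈ l, c ∈ cList) (hid : idT ∈ l) (hcl : closedOK l = true) :
    Subgroup G where
  carrier := K.img l
  one_mem' := ⟨idT, hid, K.el_id⟩
  mul_mem' := by
    rintro _ _ ⟨a, ha, rfl⟩ ⟨b, hb, rfl⟩
    exact ⟨mulT a b, closedOK_mem hcl ha hb, K.mul a (hsub a ha) b (hsub b hb)⟩
  inv_mem' := by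
    rintro _ ⟨a, ha, rfl⟩
    have hpow : ∀ n : ℕ, K.el a ^ n ∈ K.img l := by
      intro n
      induction n with
      | zero => exact ⟨idT, hid, (pow_zero (K.el a)).symm ▸ K.el_id⟩
      | succ n ih =>
        obtain ⟨b, hb, hbe⟩ := ih
        exact ⟨mulT b a, closedOK_mem hcl hb ha, by
          rw [K.mul b (hsub b hb) a (hsub a ha), hbe, pow_succ]⟩
    have h : (K.el a)⁻¹ ∈ Subgroup.zpowers (K.el a) := inv_mem (Subgroup.mem_zpowers _)
    rw [← mem_powers_iff_mem_zpowers] at h
    obtain ⟨n, hn⟩ := h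
    exact hn ▸ hpow n

theorem mem_sub {l : List ℕ} {hsub : ∀ c ∈ l, c ∈ cList} {hid : idT ∈ l}
    {hcl : closedOK l = true} {g : G} : g ∈ K.sub l hsub hid hcl ↔ ∃ c ∈ l, K.el c = g :=
  Iff.rfl

omit [Finite G] in
/-- Cardinality of an image. -/
theorem card_img {l : List ℕ} (hsub : ∀ c ∈ l, c ∈ cList) (hnd : l.Nodup) :
    Nat.card {g : G // g ∈ K.img l} = l.length := by
  classical
  rw [show Nat.card {g : G // g ∈ K.img l} = (K.img l).ncard from (Nat.card_coe_set_eq _),
    show K.img l = ↑(l.toFinset.image K.el) by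
      ext g
      simp [img, eq_comm],
    Set.ncard_coe_finset, Finset.card_image_of_injOn, List.toFinset_card_of_nodup hnd]
  intro a ha b hb h
  simp only [List.coe_toFinset, Set.mem_setOf_eq] at ha hb
  exact K.inj a (hsub a ha) b (hsub b hb) h

theorem card_sub {l : List ℕ} {hsub : ∀ c ∈ l, c ∈ cList} {hid : idT ∈ l}
    {hcl : closedOK l = true} (hnd : l.Nodup) : Nat.card (K.sub l hsub hid hcl) = l.length :=
  K.card_img hsub hnd

/-- Transport along conjugation. -/
def conj (g : G) : Coded (g * t * g⁻¹) where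
  el c := g * K.el c * g⁻¹
  mem_iff h := by
    constructor
    · intro hh
      have h1 : g⁻¹ * h * g * t = t * (g⁻¹ * h * g) := by
        calc g⁻¹ * h * g * t = g⁻¹ * (h * (g * t * g⁻¹)) * g := by group
          _ = g⁻¹ * (g * t * g⁻¹ * h) * g := by rw [hh]
          _ = t * (g⁻¹ * h * g) := by group
      obtain ⟨c, hc, e⟩ := (K.mem_iff _).1 h1
      exact ⟨c, hc, by rw [e]; group⟩
    · rintro ⟨c, hc, rfl⟩
      rw [conj_mul, conj_mul, K.commute hc]
  inj a ha b hb h := K.inj a ha b hb (mul_left_cancel (mul_right_cancel h))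
  mul a ha b hb := by rw [K.mul a ha b hb, conj_mul]
  closed := K.closed
  el_id := by rw [K.el_id, mul_one, mul_inv_cancel]
  el_z := by rw [K.el_z]

end Coded

end CfsgLib.MTwelveCent
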