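import Cfsg.Agent.MTwelveCent.Coded
import Cfsg.Agent.Small.Counting

/-!
Facts about a coded centraliser, read off from the tables.
-/

set_option autoImplicit false

namespace CfsgLib.MTwelveCent

open CfsgLib.FusionSimple.MathieuTab

/-- Whether the involutions of one list are conjugate under `cList`. -/
def oneClassOK (l : List ℕ) : Bool :=
  l.all fun a => l.all fun b => cList.any fun g => mulT g a == mulT b g

/-- The centraliser of a table in `cList`. -/
def centList (x : ℕ) : List ℕ := cList.filter fun g => mulT g x == mulT x g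

theorem named_checks : (cList.contains idT && cList.contains zT && clB.contains bT &&
    clE.contains eT && cList.contains rT && cList.contains sT && cList.contains xT &&
    (clA ++ clB ++ clE).all (fun c => cList.contains c && !(c == idT) && !(c == zT))) = true := by
  decide +kernel

theorem cList_nd : cList.Nodup := by decide +kernel

theorem mem_idT : idT ∈ cList := List.contains_iff_mem.1 (by decide +kernel)

theorem mem_zT : zT ∈ cList := List.contains_iff_mem.1 (by decide +kernel)
theorem mem_bT : bT ∈ cList := List.contains_iff_mem.1 (by decide +kernel)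
theorem mem_eT : eT ∈ cList := List.contains_iff_mem.1 (by decide +kernel)
theorem bT_mem_clB : bT ∈ clB := List.contains_iff_mem.1 (by decide +kernel)
theorem eT_mem_clE : eT ∈ clE := List.contains_iff_mem.1 (by decide +kernel)

theorem cls_sub {c : ℕ} (h : c ∈ clA ++ clB ++ clE) : c ∈ cList ∧ c ≠ idT ∧ c ≠ zT := by
  have h' := named_checks
  simp only [Bool.and_eq_true, List.all_eq_true, Bool.not_eq_true', beq_eq_false_iff_ne] at h'
  obtain ⟨⟨h1, h2⟩, h3⟩ := h'.2 c h
  exact ⟨List.contains_iff_mem.1 h1, h2, h3⟩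

theorem clA_sub {c : ℕ} (h : c ∈ clA) : c ∈ cList := (cls_sub (by simp [h])).1
theorem clB_sub {c : ℕ} (h : c ∈ clB) : c ∈ cList := (cls_sub (by simp [h])).1
theorem clE_sub {c : ℕ} (h : c ∈ clE) : c ∈ cList := (cls_sub (by simp [h])).1

theorem invol_checks : (cList.all fun c =>
    !(mulT c c == idT) || c == idT || c == zT || clA.contains c || clB.contains c ||
      clE.contains c) = true := by decide +kernel

theorem square_checks : ((clA ++ clB ++ clE ++ [zT]).all fun c => mulT c c == idT) = true := by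
  decide +kernel

theorem class_checks : (oneClassOK clA && oneClassOK clB && oneClassOK clE) = true := by
  decide +kernel

theorem cent_checks : (clA.all (fun x => (centList x).length == 32) &&
    clB.all (fun x => (centList x).length == 16) &&
    clE.all (fun x => (centList x).length == 8) && (centList zT).length == 192) = true := by
  decide +kernel

namespace Coded

variable {G : Type*} [Group G] {t : G} (K : Coded t)

theorem el_ne_one {c : ℕ} (hc : c ∈ cList) (h : c ≠ idT) : K.el c ≠ 1 := fun e =>
  h (K.inj c hc idT mem_idT (e.trans K.el_id.symm))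

theorem el_ne_t {c : ℕ} (hc : c ∈ cList) (h : c ≠ zT) : K.el c ≠ t := fun e =>
  h (K.inj c hc zT mem_zT (e.trans K.el_z.symm))

theorem el_order_two {c : ℕ} (h : c ∈ clA ++ clB ++ clE) : orderOf (K.el c) = 2 := by
  obtain ⟨hc, h1, -⟩ := cls_sub h
  refine orderOf_eq_prime ?_ (K.el_ne_one hc h1)
  rw [pow_two, ← K.mul c hc c hc, beq_iff_eq.1 (List.all_eq_true.1 square_checks c
    (List.mem_append_left _ h)), K.el_id]

theorem invol_cases {x : G} (hx : x * t = t * x) (h2 : orderOf x = 2) :
    x = t ∨ x ∈ K.img clA ∨ x ∈ K.img clB ∨ x ∈ K.img clE := by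
  obtain ⟨c, hc, rfl⟩ := (K.mem_iff x).1 hx
  have h := List.all_eq_true.1 invol_checks c hc
  simp only [Bool.or_eq_true, Bool.not_eq_true', beq_eq_false_iff_ne, beq_iff_eq,
    List.contains_iff_mem] at h
  rcases h with ((((h | h) | h) | h) | h) | h
  · refine absurd (K.inj _ (K.closed c hc c hc) idT mem_idT ?_) h
    rw [K.mul c hc c hc, K.el_id, CfsgLib.Small.mul_self_of_orderOf_two h2]
  · exact absurd (by rw [h, K.el_id]) (CfsgLib.Small.ne_one_of_orderOf_two h2)
  · exact Or.inl (h ▸ K.el_z)
  · exact Or.inr (Or.inl ⟨c, h, rfl⟩)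
  · exact Or.inr (Or.inr (Or.inl ⟨c, h, rfl⟩))
  · exact Or.inr (Or.inr (Or.inr ⟨c, h, rfl⟩))

/-- Members of one of the three lists are conjugate by an element centralising `t`. -/
theorem exists_conj {l : List ℕ} (hl : l = clA ∨ l = clB ∨ l = clE) {x y : G} (hx : x ∈ K.img l)
    (hy : y ∈ K.img l) : ∃ g, g * t = t * g ∧ g * x * g⁻¹ = y := by
  obtain ⟨a, ha, rfl⟩ := hx
  obtain ⟨b, hb, rfl⟩ := hy
  have hsub : ∀ c ∈ l, c ∈ cList := by
    rcases hl with rfl | rfl | rfl
    exacts [fun c h => clA_sub h, fun c h => clB_sub h, fun c h => clE_sub h]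
  have hok : oneClassOK l = true := by
    have h := class_checks
    simp only [Bool.and_eq_true] at h
    rcases hl with rfl | rfl | rfl
    exacts [h.1.1, h.1.2, h.2]
  obtain ⟨g, hg, he⟩ := List.any_eq_true.1
    (List.all_eq_true.1 (List.all_eq_true.1 hok a ha) b hb)
  exact ⟨K.el g, K.commute hg, (K.conj_eq_iff hg (hsub a ha) (hsub b hb)).2 (beq_iff_eq.1 he)⟩

theorem isConj_of_mem {l : List ℕ} (hl : l = clA ∨ l = clB ∨ l = clE) {x y : G}
    (hx : x ∈ K.img l) (hy : y ∈ K.img l) : IsConj x y :=
  let ⟨g, _, hg⟩ := K.exists_conj hl hx hy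
  isConj_iff.2 ⟨g, hg⟩

theorem mem_cent_iff {a : ℕ} (ha : a ∈ cList) (g : G) :
    g * t = t * g ∧ g * K.el a = K.el a * g ↔ g ∈ K.img (centList a) := by
  constructor
  · rintro ⟨h1, h2⟩
    obtain ⟨c, hc, rfl⟩ := (K.mem_iff g).1 h1
    exact ⟨c, List.mem_filter.2 ⟨hc, beq_iff_eq.2 ((K.mul_eq_mul_iff hc ha ha hc).1 h2)⟩, rfl⟩
  · rintro ⟨c, hc, rfl⟩
    obtain ⟨hc, he⟩ := List.mem_filter.1 hc
    exact ⟨K.commute hc, (K.mul_eq_mul_iff hc ha ha hc).2 (beq_iff_eq.1 he)⟩

theorem card_cent {a : ℕ} (ha : a ∈ cList) :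
    Nat.card {g : G // g * t = t * g ∧ g * K.el a = K.el a * g} = (centList a).length := by
  rw [← K.card_img (l := centList a) (fun c hc => (List.mem_filter.1 hc).1) (cList_nd.filter _)]
  exact Nat.card_congr (Equiv.subtypeEquivRight (K.mem_cent_iff ha))

theorem card_cent_A {x : G} (hx : x ∈ K.img clA) :
    Nat.card {g : G // g * t = t * g ∧ g * x = x * g} = 32 := by
  obtain ⟨a, ha, rfl⟩ := hx
  rw [K.card_cent (clA_sub ha)]
  have h := cent_checks
  simp only [Bool.and_eq_true, List.all_eq_true, beq_iff_eq] at h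
  exact h.1.1.1 a ha

theorem card_cent_B {x : G} (hx : x ∈ K.img clB) :
    Nat.card {g : G // g * t = t * g ∧ g * x = x * g} = 16 := by
  obtain ⟨a, ha, rfl⟩ := hx
  rw [K.card_cent (clB_sub ha)]
  have h := cent_checks
  simp only [Bool.and_eq_true, List.all_eq_true, beq_iff_eq] at h
  exact h.1.1.2 a ha

theorem card_cent_E {x : G} (hx : x ∈ K.img clE) :
    Nat.card {g : G // g * t = t * g ∧ g * x = x * g} = 8 := by
  obtain ⟨a, ha, rfl⟩ := hx
  rw [K.card_cent (clE_sub ha)]
  have h := cent_checks
  simp only [Bool.and_eq_true, List.all_eq_true, beq_iff_eq] at h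
  exact h.1.2 a ha

include K in
theorem card_centralizer : Nat.card (Subgroup.centralizer ({t} : Set G)) = 192 := by
  have h := cent_checks
  simp only [Bool.and_eq_true, beq_iff_eq] at h
  rw [← h.2, ← K.card_cent mem_zT, K.el_z]
  exact Nat.card_congr (Equiv.subtypeEquivRight fun g => by
    rw [Subgroup.mem_centralizer_singleton_iff]; simp)

/-- An involution commuting with `t` is determined up to conjugacy by the order of the common
centraliser. -/
theorem class_of_card {x : G} (hx : x * t = t * x) (h2 : orderOf x = 2) (hne : x ≠ t) :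
    (Nat.card {g : G // g * t = t * g ∧ g * x = x * g} = 32 → x ∈ K.img clA) ∧
    (Nat.card {g : G // g * t = t * g ∧ g * x = x * g} = 16 → x ∈ K.img clB) ∧
    (Nat.card {g : G // g * t = t * g ∧ g * x = x * g} = 8 → x ∈ K.img clE) := by
  rcases K.invol_cases hx h2 with h | h | h | h
  · exact absurd h hne
  · rw [K.card_cent_A h]; exact ⟨fun _ => h, fun h => absurd h (by norm_num),
      fun h => absurd h (by norm_num)⟩
  · rw [K.card_cent_B h]; exact ⟨fun h => absurd h (by norm_num), fun _ => h,
      fun h => absurd h (by norm_num)⟩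
  · rw [K.card_cent_E h]; exact ⟨fun h => absurd h (by norm_num),
      fun h => absurd h (by norm_num), fun _ => h⟩

end Coded

end CfsgLib.MTwelveCent
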