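import Cfsg.Agent.MTwelveCent.Facts
import Cfsg.Agent.MTwelveCent.MTwelve
import Cfsg.Agent.Inv54.CentralizerFour
import Cfsg.Agent.ZStar.Theorem

/-!
The classes of involutions of a simple group with a coded involution centraliser.
-/

set_option autoImplicit false

namespace CfsgLib.MTwelveCent

open Cfsg CfsgLib.FusionSimple.MathieuTab

theorem qList_checks : (closedOK qList && qList.contains idT && qList.all (fun c => cList.contains c)
    && qList.all (fun c => !(mulT c c == idT) || c == idT || c == zT || clA.contains c ||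
      clB.contains c)) = true := by
  decide +kernel

theorem qList_nodup : qList.Nodup := by decide +kernel

theorem qList_length : qList.length = 32 := by decide +kernel

theorem sList_length : sList.length = 64 := by decide +kernel

theorem eight_checks : ((centList eT).any (fun a => clA.contains a && clA.contains (mulT a zT) &&
      (centList eT).contains (mulT a zT)) &&
    (centList eT).all (fun a => (centList eT).all fun b =>
      !(clA.contains a && clA.contains b) || a == b || mulT a b == zT) &&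
    (centList eT).all (fun c => c == idT || c == zT || clA.contains c || clE.contains c)) = true := by
  decide +kernel

theorem sixteen_checks : ((centList bT).any (fun w => mulT w w == zT) &&
    (centList bT).all (fun w => !(mulT w w == bT))) = true := by decide +kernel

universe u

namespace Coded

variable {G : Type u} [Group G] [Finite G] {t : G} (K : Coded t)
include K

theorem mul_t_self : t * t = 1 := by
  rw [← K.el_z, ← K.mul zT mem_zT zT mem_zT,
    beq_iff_eq.1 (List.all_eq_true.1 square_checks zT (by simp)), K.el_id]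

theorem orderOf_t : orderOf t = 2 := by
  refine orderOf_eq_prime (by rw [pow_two]; exact K.mul_t_self) fun h => ?_
  exact (show zT ≠ idT by decide +kernel) (K.inj _ mem_zT _ mem_idT (by rw [K.el_z, K.el_id, h]))

/-- An involution of `C(t)` conjugate to `t` may be exchanged with `t`. -/
theorem exists_swap {l : List ℕ} (hl : l = clA ∨ l = clB ∨ l = clE) {x : G} (hx : x ∈ K.img l)
    (h : IsConj t x) : ∃ g, g * x * g⁻¹ = t ∧ g * t * g⁻¹ = x := by
  obtain ⟨g, hg⟩ := isConj_iff.1 h.symm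
  have hxt : x * t = t * x := by
    obtain ⟨c, hc, rfl⟩ := hx
    rcases hl with rfl | rfl | rfl
    exacts [K.commute (clA_sub hc), K.commute (clB_sub hc), K.commute (clE_sub hc)]
  set y := g * t * g⁻¹
  have hyt : y * t = t * y := by rw [← hg, conj_mul, conj_mul, hxt]
  have hy2 : orderOf y = 2 := by rw [CfsgLib.Small.orderOf_conj_eq, K.orderOf_t]
  have hyne : y ≠ t := by
    intro e
    have h' : x = t := by
      rw [← hg] at e
      exact (mul_left_cancel (mul_right_cancel e)).symm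
    obtain ⟨c, hc, rfl⟩ := hx
    rcases hl with rfl | rfl | rfl <;>
      exact K.el_ne_t (cls_sub (by simp [hc])).1 (cls_sub (by simp [hc])).2.2 h'
  have hcard : Nat.card {c : G // c * t = t * c ∧ c * x = x * c}
      = Nat.card {c : G // c * t = t * c ∧ c * y = y * c} := by
    refine Nat.card_congr ((MulAut.conj g).toEquiv.subtypeEquiv fun c => ?_)
    show _ ↔ g * c * g⁻¹ * t = t * (g * c * g⁻¹) ∧ g * c * g⁻¹ * y = y * (g * c * g⁻¹)
    rw [show (g * c * g⁻¹ * t = t * (g * c * g⁻¹)) ↔ c * x = x * c by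
      rw [← hg, conj_mul, conj_mul]; simp,
      show (g * c * g⁻¹ * y = y * (g * c * g⁻¹)) ↔ c * t = t * c by
      rw [conj_mul, conj_mul]; simp, and_comm]
  obtain ⟨h32, h16, h8⟩ := K.class_of_card hyt hy2 hyne
  have hyl : y ∈ K.img l := by
    rcases hl with rfl | rfl | rfl
    · exact h32 (hcard.symm.trans (K.card_cent_A hx))
    · exact h16 (hcard.symm.trans (K.card_cent_B hx))
    · exact h8 (hcard.symm.trans (K.card_cent_E hx))
  obtain ⟨k, hk, hky⟩ := K.exists_conj hl hyl hx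
  refine ⟨k * g, ?_, ?_⟩
  · rw [show k * g * x * (k * g)⁻¹ = k * (g * x * g⁻¹) * k⁻¹ by group, hg, hk, mul_inv_cancel_right]
  · rw [show k * g * t * (k * g)⁻¹ = k * (g * t * g⁻¹) * k⁻¹ by group]
    exact hky

theorem not_isConj_B : ¬ IsConj t (K.el bT) := by
  intro h
  obtain ⟨g, hgx, hgt⟩ := K.exists_swap (Or.inr (Or.inl rfl)) ⟨bT, bT_mem_clB, rfl⟩ h
  obtain ⟨h1, h2⟩ : _ ∧ _ := Bool.and_eq_true_iff.1 sixteen_checks
  obtain ⟨w, hw, hww⟩ := List.any_eq_true.1 h1
  obtain ⟨hwc, -⟩ := List.mem_filter.1 hw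
  obtain ⟨hwt, hwb⟩ := (K.mem_cent_iff mem_bT (K.el w)).2 ⟨w, hw, rfl⟩
  have hv : g * K.el w * g⁻¹ * t = t * (g * K.el w * g⁻¹) ∧
      g * K.el w * g⁻¹ * K.el bT = K.el bT * (g * K.el w * g⁻¹) := by
    constructor
    · have h' : g * K.el w * g⁻¹ * (g * K.el bT * g⁻¹) = g * K.el bT * g⁻¹ * (g * K.el w * g⁻¹) := by
        rw [conj_mul, conj_mul, hwb]
      rwa [hgx] at h'
    · have h' : g * K.el w * g⁻¹ * (g * t * g⁻¹) = g * t * g⁻¹ * (g * K.el w * g⁻¹) := by
        rw [conj_mul, conj_mul, hwt]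
      rwa [hgt] at h'
  obtain ⟨v, hvm, hve⟩ := (K.mem_cent_iff mem_bT _).1 hv
  have hvc := (List.mem_filter.1 hvm).1
  have h3 := List.all_eq_true.1 h2 v hvm
  simp only [Bool.not_eq_true', beq_eq_false_iff_ne] at h3
  refine h3 (K.inj _ (K.closed v hvc v hvc) bT mem_bT ?_)
  rw [K.mul v hvc v hvc, hve, conj_mul, ← K.mul w hwc w hwc, beq_iff_eq.1 hww, K.el_z, hgt]

theorem eT_false (h : IsConj t (K.el eT))
    (hA : ∀ x ∈ K.img clA, ¬ IsConj t x) : False := by
  obtain ⟨g, hgx, hgt⟩ := K.exists_swap (Or.inr (Or.inr rfl)) ⟨eT, eT_mem_clE, rfl⟩ h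
  obtain ⟨⟨h1, h2⟩, h3⟩ : (_ ∧ _) ∧ _ := by
    simpa only [Bool.and_eq_true] using eight_checks
  obtain ⟨a, ha, ha'⟩ := List.any_eq_true.1 h1
  simp only [Bool.and_eq_true, List.contains_iff_mem] at ha'
  obtain ⟨⟨haA, hazA⟩, hazm⟩ := ha'
  -- images of members of the first list stay there
  have key : ∀ c ∈ centList eT, c ∈ clA → ∃ d ∈ centList eT, d ∈ clA ∧ K.el d = g * K.el c * g⁻¹ := by
    intro c hc hcA
    obtain ⟨hct, hce⟩ := (K.mem_cent_iff mem_eT (K.el c)).2 ⟨c, hc, rfl⟩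
    have hv : g * K.el c * g⁻¹ * t = t * (g * K.el c * g⁻¹) ∧
        g * K.el c * g⁻¹ * K.el eT = K.el eT * (g * K.el c * g⁻¹) := by
      constructor
      · have h' : g * K.el c * g⁻¹ * (g * K.el eT * g⁻¹) = g * K.el eT * g⁻¹ * (g * K.el c * g⁻¹) := by
          rw [conj_mul, conj_mul, hce]
        rwa [hgx] at h'
      · have h' : g * K.el c * g⁻¹ * (g * t * g⁻¹) = g * t * g⁻¹ * (g * K.el c * g⁻¹) := by
          rw [conj_mul, conj_mul, hct]
        rwa [hgt] at h'
    obtain ⟨d, hd, hde⟩ := (K.mem_cent_iff mem_eT _).1 hv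
    refine ⟨d, hd, ?_, hde⟩
    have hconj : IsConj (K.el c) (K.el d) := isConj_iff.2 ⟨g, hde.symm⟩
    have hnot : ∀ y, IsConj t y → y ≠ K.el d := fun y hy e =>
      hA _ ⟨c, hcA, rfl⟩ ((e ▸ hy).trans hconj.symm)
    have h3' := List.all_eq_true.1 h3 d hd
    simp only [Bool.or_eq_true, beq_iff_eq, List.contains_iff_mem] at h3'
    rcases h3' with ((h' | h') | h') | h'
    · exfalso
      apply K.el_ne_one (clA_sub hcA) (cls_sub (by simp [hcA])).2.1
      rw [h', K.el_id] at hde
      exact conj_eq_one_iff.1 hde.symm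
    · exact absurd (h' ▸ K.el_z).symm (hnot t (IsConj.refl t))
    · exact h'
    · exact absurd rfl (hnot _ (h.trans (K.isConj_of_mem (Or.inr (Or.inr rfl))
        ⟨eT, eT_mem_clE, rfl⟩ ⟨d, h', rfl⟩)))
  obtain ⟨d, hd, hdA, hde⟩ := key a ha haA
  obtain ⟨d', hd', hd'A, hd'e⟩ := key (mulT a zT) hazm hazA
  have hh := List.all_eq_true.1 (List.all_eq_true.1 h2 d hd) d' hd'
  simp only [Bool.or_eq_true, Bool.not_eq_true', beq_iff_eq, List.contains_iff_mem,
    Bool.and_eq_false_iff, ← Bool.not_eq_true] at hh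
  rw [K.mul a (clA_sub haA) zT mem_zT, K.el_z] at hd'e
  have hne : d ≠ d' := fun e => by
    rw [e, hd'e] at hde
    exact CfsgLib.Small.ne_one_of_orderOf_two K.orderOf_t
      (mul_eq_left.1 (mul_left_cancel (mul_right_cancel hde)))
  have hz : mulT d d' = zT := by
    rcases hh with (h' | h') | h'
    · exact (h' (by simp [hdA, hd'A])).elim
    · exact absurd h' hne
    · exact h'
  have heq : K.el (mulT d d') = g * (K.el a * (K.el a * t)) * g⁻¹ := by
    rw [K.mul d (clA_sub hdA) d' (clA_sub hd'A), hde, hd'e, conj_mul]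
  have haa : K.el a * (K.el a * t) = t := by
    rw [← mul_assoc, CfsgLib.Small.mul_self_of_orderOf_two (K.el_order_two (by simp [haA])), one_mul]
  rw [hz, K.el_z, haa, hgt] at heq
  exact K.el_ne_t mem_eT (cls_sub (by simp [eT_mem_clE])).2.2 heq.symm

theorem not_normal_odd_or_center [IsSimpleGroup G] :
    (∀ N : Subgroup G, N.Normal → Odd (Nat.card N) → N = ⊥) ∧ t ∉ Subgroup.center G := by
  refine ⟨fun N hN hodd => (hN.eq_bot_or_eq_top).resolve_right fun h => ?_, fun h => ?_⟩
  · subst h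
    rw [Subgroup.card_top] at hodd
    exact hodd.not_two_dvd_nat (K.orderOf_t ▸ orderOf_dvd_natCard t)
  · -- `el bT` and `el eT` do not commute
    have hz : Subgroup.center G = ⊤ :=
      ((inferInstance : (Subgroup.center G).Normal).eq_bot_or_eq_top).resolve_left fun hb => by
        rw [hb, Subgroup.mem_bot] at h
        exact CfsgLib.Small.ne_one_of_orderOf_two K.orderOf_t h
    have hc : K.el bT * K.el eT = K.el eT * K.el bT :=
      (Subgroup.mem_center_iff.1 (hz ▸ Subgroup.mem_top (K.el eT)) (K.el bT))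
    rw [K.mul_eq_mul_iff mem_bT mem_eT mem_eT mem_bT] at hc
    exact (show mulT bT eT ≠ mulT eT bT by decide +kernel) hc

theorem exists_other [IsSimpleGroup G] :
    ∃ x, orderOf x = 2 ∧ x * t = t * x ∧ x ≠ t ∧ IsConj t x := by
  by_contra hcon
  obtain ⟨hodd, hcen⟩ := K.not_normal_odd_or_center
  refine hcen (CfsgLib.ZStar.mem_center_of_isolated ⟨K.orderOf_t, fun g hg => ?_⟩ hodd)
  by_contra hne
  exact hcon ⟨g * t * g⁻¹, by rw [CfsgLib.Small.orderOf_conj_eq, K.orderOf_t], hg.eq.symm, hne,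
    isConj_iff.2 ⟨g, rfl⟩⟩

/-- The Sylow 2-subgroup of `C(t)` given by `sList` is a Sylow 2-subgroup. -/
theorem exists_sylow : ∃ S : Sylow 2 G, ∀ g, g ∈ (S : Subgroup G) ↔ g ∈ K.img sList := by
  haveI : Fact (Nat.Prime 2) := ⟨Nat.prime_two⟩
  obtain ⟨⟨⟨⟨h1, h2⟩, h3⟩, h4⟩, h5⟩ : (((_ ∧ _) ∧ _) ∧ _) ∧ _ := by
    simpa only [Bool.and_eq_true] using sList_checks
  have hsub : ∀ c ∈ sList, c ∈ cList := fun c hc =>
    List.contains_iff_mem.1 (List.all_eq_true.1 h4 c hc)
  set S0 := K.sub sList hsub (List.contains_iff_mem.1 h2) h1 with hS0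
  have hS0c : Nat.card S0 = 2 ^ 6 := by rw [hS0, K.card_sub sList_nodup, sList_length]; norm_num
  obtain ⟨S, hS⟩ := (IsPGroup.of_card hS0c).exists_le_sylow
  refine ⟨S, fun g => ?_⟩
  suffices h : S0 = (S : Subgroup G) by rw [← h]; rfl
  by_contra hne
  have hlt : S0.subgroupOf S < ⊤ := lt_top_iff_ne_top.2 fun e =>
    hne (le_antisymm hS (Subgroup.subgroupOf_eq_top.1 e))
  haveI : Group.IsNilpotent (S : Subgroup G) := S.isPGroup'.isNilpotent
  obtain ⟨n, hn, hnS⟩ := SetLike.exists_of_lt (Group.normalizerCondition_of_isNilpotent _ hlt)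
  apply hnS
  rw [Subgroup.mem_normalizer_iff] at hn
  -- `n` fixes `t`
  have htS0 : t ∈ S0 := ⟨zT, List.contains_iff_mem.1 h3, K.el_z⟩
  have hy : (n : G) * t * (n : G)⁻¹ ∈ S0 := by
    have := (hn ⟨t, hS htS0⟩).1 htS0
    exact this
  obtain ⟨c, hc, hce⟩ := hy
  have hcz : c = zT := by
    have h := List.all_eq_true.1 h5 c hc
    simp only [Bool.or_eq_true, beq_iff_eq, List.any_eq_true, bne_iff_ne] at h
    rcases h with (h | h) | ⟨d, hd, hne'⟩
    · rw [h, K.el_id, eq_comm, conj_eq_one_iff] at hce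
      exact absurd hce (CfsgLib.Small.ne_one_of_orderOf_two K.orderOf_t)
    · exact h
    · refine absurd ?_ hne'
      have hy : (n : G)⁻¹ * K.el d * n ∈ S0 := by
        have hdS : K.el d ∈ (S : Subgroup G) := hS ⟨d, hd, rfl⟩
        have hh := (hn (n⁻¹ * ⟨K.el d, hdS⟩ * n)).2 (by
          simp only [Subgroup.mem_subgroupOf, Subgroup.coe_mul, Subgroup.coe_inv]
          rw [show (n : G) * ((n : G)⁻¹ * K.el d * n) * (n : G)⁻¹ = K.el d by group]
          exact ⟨d, hd, rfl⟩)
        exact hh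
      obtain ⟨d', hd', hd'e⟩ := hy
      have hcm := K.commute (hsub d' hd')
      rw [hd'e] at hcm
      rw [← K.mul_eq_mul_iff (hsub d hd) (hsub c hc) (hsub c hc) (hsub d hd), hce]
      calc K.el d * ((n : G) * t * (n : G)⁻¹) = n * ((n : G)⁻¹ * K.el d * n * t) * (n : G)⁻¹ := by group
        _ = n * (t * ((n : G)⁻¹ * K.el d * n)) * (n : G)⁻¹ := by rw [hcm]
        _ = (n : G) * t * (n : G)⁻¹ * K.el d := by group
  rw [hcz, K.el_z] at hce
  have hnC : (n : G) * t = t * n := mul_inv_eq_iff_eq_mul.1 hce.symm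
  -- the part of `S` centralising `t` is no larger
  set T := (S : Subgroup G) ⊓ Subgroup.centralizer ({t} : Set G)
  have hle : S0 ≤ T := le_inf hS fun g ⟨d, hd, e⟩ =>
    Subgroup.mem_centralizer_singleton_iff.2 (e ▸ K.commute (hsub d hd))
  have hT : T = S0 := by
    refine (Subgroup.eq_of_le_of_card_ge hle ?_).symm
    obtain ⟨k, hk⟩ := (S.isPGroup'.to_le (inf_le_left : T ≤ _)).exists_card_eq
    have hd : Nat.card T ∣ 192 := K.card_centralizer ▸ Subgroup.card_dvd_of_le inf_le_right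
    rw [hk] at hd ⊢
    rw [hS0c]
    refine Nat.pow_le_pow_right two_pos ?_
    by_contra hk7
    have := (Nat.pow_dvd_pow 2 (show 7 ≤ k by omega)).trans hd
    norm_num at this
  rw [Subgroup.mem_subgroupOf, ← hT]
  exact ⟨n.2, Subgroup.mem_centralizer_singleton_iff.2 hnC⟩

theorem exists_conj_commute {x : G} (hx : orderOf x = 2) :
    ∃ y, IsConj x y ∧ y * t = t * y := by
  haveI : Fact (Nat.Prime 2) := ⟨Nat.prime_two⟩
  obtain ⟨S, hS⟩ := K.exists_sylow
  obtain ⟨P, hP⟩ := (IsPGroup.of_card (n := 1) (show Nat.card (Subgroup.zpowers x) = 2 ^ 1 by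
    rw [Nat.card_zpowers, hx, pow_one])).exists_le_sylow
  obtain ⟨g, hg⟩ := MulAction.exists_smul_eq G P S
  have hmem : g * x * g⁻¹ ∈ (S : Subgroup G) := by
    rw [← hg, Sylow.coe_subgroup_smul]
    exact Subgroup.smul_mem_pointwise_smul x (MulAut.conj g) P (hP (Subgroup.mem_zpowers x))
  obtain ⟨c, hc, hce⟩ := (hS _).1 hmem
  refine ⟨g * x * g⁻¹, isConj_iff.2 ⟨g, rfl⟩, hce ▸ K.commute ?_⟩
  have h := sList_checks
  simp only [Bool.and_eq_true, List.all_eq_true, List.contains_iff_mem] at h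
  exact h.1.2 c hc

/-- The involutions outside the normal 2-subgroup are fused into it. -/
theorem eT_fused [IsSimpleGroup G] :
    IsConj t (K.el eT) ∨ (∃ x ∈ K.img clA, IsConj x (K.el eT)) ∨ IsConj (K.el bT) (K.el eT) := by
  haveI : Fact (Nat.Prime 2) := ⟨Nat.prime_two⟩
  by_contra hcon
  simp only [not_or, not_exists, not_and] at hcon
  obtain ⟨n1, n2, n3⟩ := hcon
  obtain ⟨⟨⟨h1, h2⟩, h3⟩, h4⟩ : ((_ ∧ _) ∧ _) ∧ _ := by
    simpa only [Bool.and_eq_true] using qList_checks
  have hsub : ∀ c ∈ qList, c ∈ cList := fun c hc =>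
    List.contains_iff_mem.1 (List.all_eq_true.1 h3 c hc)
  set Q := K.sub qList hsub (List.contains_iff_mem.1 h2) h1 with hQ
  have hQc : Nat.card Q = 32 := by rw [hQ, K.card_sub qList_nodup, qList_length]
  obtain ⟨S, hS⟩ := K.exists_sylow
  have hSc : Nat.card (S : Subgroup G) = 64 := by
    rw [← sList_length, ← K.card_img (l := sList) (fun c hc => by
      have h := sList_checks
      simp only [Bool.and_eq_true, List.all_eq_true, List.contains_iff_mem] at h
      exact h.1.2 c hc) sList_nodup]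
    exact Nat.card_congr (Equiv.subtypeEquivRight hS)
  have hidx : ∃ m, Odd m ∧ Q.index = 2 * m := by
    refine ⟨(S : Subgroup G).index, Nat.odd_iff.2 (Nat.two_dvd_ne_zero.1 S.not_dvd_index), ?_⟩
    have h1 := Q.card_mul_index
    have h2 := (S : Subgroup G).card_mul_index
    rw [hQc] at h1
    rw [hSc] at h2
    omega
  obtain ⟨m, hm, hmi⟩ := hidx
  have he2 := K.el_order_two (c := eT) (by simp [eT_mem_clE])
  obtain ⟨H, hH, -⟩ := CfsgLib.Inv54.exists_index_two_not_mem Q he2 hm hmi fun g hg => by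
    obtain ⟨c, hc, hce⟩ := hg
    have hconj : IsConj (K.el c) (K.el eT) := isConj_iff.2 ⟨g, by rw [hce]; group⟩
    have h2' : orderOf (K.el c) = 2 := by
      rw [hce, show g⁻¹ * K.el eT * g = g⁻¹ * K.el eT * g⁻¹⁻¹ by group,
        CfsgLib.Small.orderOf_conj_eq, he2]
    have h := List.all_eq_true.1 h4 c hc
    simp only [Bool.or_eq_true, Bool.not_eq_true', beq_eq_false_iff_ne, beq_iff_eq,
      List.contains_iff_mem] at h
    rcases h with (((h | h) | h) | h) | h
    · refine h (K.inj _ (K.closed c (hsub c hc) c (hsub c hc)) idT mem_idT ?_)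
      rw [K.mul c (hsub c hc) c (hsub c hc), K.el_id,
        CfsgLib.Small.mul_self_of_orderOf_two h2']
    · exact CfsgLib.Small.ne_one_of_orderOf_two h2' (by rw [h, K.el_id])
    · rw [h, K.el_z] at hconj
      exact n1 hconj
    · exact n2 _ ⟨c, h, rfl⟩ hconj
    · exact n3 ((K.isConj_of_mem (Or.inr (Or.inl rfl)) ⟨bT, bT_mem_clB, rfl⟩ ⟨c, h, rfl⟩).trans hconj)
  haveI := Subgroup.normal_of_index_eq_two hH
  rcases (inferInstance : H.Normal).eq_bot_or_eq_top with h | h
  · rw [h, Subgroup.index_bot] at hH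
    have := Subgroup.card_dvd_of_le (le_top : (S : Subgroup G) ≤ ⊤)
    rw [hSc, Subgroup.card_top, hH] at this
    norm_num at this
  · rw [h, Subgroup.index_top] at hH
    omega

/-- The classes of involutions: that of `t`, containing the first list, and that of `el bT`. -/
theorem classes [IsSimpleGroup G] :
    (∀ x ∈ K.img clA, IsConj t x) ∧ (∀ x ∈ K.img clB, ¬ IsConj t x) ∧
    ((∀ x ∈ K.img clE, IsConj t x) ∨ (∀ x ∈ K.img clE, IsConj (K.el bT) x)) ∧
    ∀ x : G, orderOf x = 2 → IsConj t x ∨ IsConj (K.el bT) x := by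
  have hb : ∀ x ∈ K.img clB, IsConj (K.el bT) x := fun x hx =>
    K.isConj_of_mem (Or.inr (Or.inl rfl)) ⟨bT, bT_mem_clB, rfl⟩ hx
  have he : ∀ x ∈ K.img clE, IsConj (K.el eT) x := fun x hx =>
    K.isConj_of_mem (Or.inr (Or.inr rfl)) ⟨eT, eT_mem_clE, rfl⟩ hx
  have hA : ∀ x ∈ K.img clA, IsConj t x := by
    by_contra hcon
    have hnA : ∀ x ∈ K.img clA, ¬ IsConj t x := fun x hx hc => hcon fun y hy =>
      hc.trans (K.isConj_of_mem (Or.inl rfl) hx hy)
    obtain ⟨x, hx2, hxt, hne, hconj⟩ := K.exists_other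
    rcases K.invol_cases hxt hx2 with h | h | h | h
    · exact hne h
    · exact hnA x h hconj
    · exact K.not_isConj_B (hconj.trans (hb x h).symm)
    · exact K.eT_false (hconj.trans (he x h).symm) hnA
  have hB : ∀ x ∈ K.img clB, ¬ IsConj t x := fun x hx hc =>
    K.not_isConj_B (hc.trans (hb x hx).symm)
  have hE : (∀ x ∈ K.img clE, IsConj t x) ∨ (∀ x ∈ K.img clE, IsConj (K.el bT) x) := by
    rcases K.eT_fused with h | ⟨a, ha, h⟩ | h
    · exact Or.inl fun x hx => h.trans (he x hx)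
    · exact Or.inl fun x hx => ((hA a ha).trans h).trans (he x hx)
    · exact Or.inr fun x hx => h.trans (he x hx)
  refine ⟨hA, hB, hE, fun x hx => ?_⟩
  obtain ⟨y, hxy, hyt⟩ := K.exists_conj_commute hx
  have hy : orderOf y = 2 := by
    obtain ⟨g, rfl⟩ := isConj_iff.1 hxy
    rw [CfsgLib.Small.orderOf_conj_eq, hx]
  rcases K.invol_cases hyt hy with h | h | h | h
  · exact Or.inl (h ▸ hxy).symm
  · exact Or.inl ((hA y h).trans hxy.symm)
  · exact Or.inr ((hb y h).trans hxy.symm)
  · rcases hE with hE | hE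
    · exact Or.inl ((hE y h).trans hxy.symm)
    · exact Or.inr ((hE y h).trans hxy.symm)

end Coded

end CfsgLib.MTwelveCent
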